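import Mathlib

/-!
# A division space closed under `a b a` is a field

A subspace `S` of `n × n` matrices over a finite field, of dimension `n`, containing `1`, all of whose
non-zero members are invertible and closed under `(a, b) ↦ a b a`, is commutative and closed under
multiplication. The characteristic polynomial of the generic member is irreducible by Chevalley–Warning,
so the powers of the generic member span the space of members.
-/

set_option autoImplicit false
set_option linter.style.haveILetI false

open Polynomial Matrix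

namespace CfsgLib.Char.NatSL

variable {F : Type*} [Field F] {n : ℕ}

local notation "Mn" => Matrix (Fin n) (Fin n)

/-- The generic member of the space spanned by `e`. -/
noncomputable def genMember (e : Fin n → Mn F) : Mn (MvPolynomial (Fin n) F) :=
  ∑ i, (MvPolynomial.X i : MvPolynomial (Fin n) F) • (e i).map MvPolynomial.C

theorem genMember_apply (e : Fin n → Mn F) (i j : Fin n) :
    genMember e i j = ∑ k, MvPolynomial.X k * MvPolynomial.C (e k i j) := by
  simp [genMember, Matrix.sum_apply]

theorem genMember_eval (e : Fin n → Mn F) (v : Fin n → F) :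
    (genMember e).map (MvPolynomial.eval v) = ∑ k, v k • e k := by
  ext i j
  simp [genMember_apply, Matrix.sum_apply]

theorem totalDegree_charpoly_le (e : Fin n → Mn F) :
    ((MvPolynomial.optionEquivLeft F (Fin n)).symm (genMember e).charpoly).totalDegree ≤ n := by
  classical
  set E := (MvPolynomial.optionEquivLeft F (Fin n)).symm
  have hentry : ∀ i j, (E ((genMember e).charmatrix i j)).totalDegree ≤ 1 := by
    intro i j
    have hX : E (Polynomial.X : (MvPolynomial (Fin n) F)[X]) = MvPolynomial.X none :=
      MvPolynomial.optionEquivLeft_symm_X F (Fin n)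
    have hC : ∀ f : MvPolynomial (Fin n) F, E (Polynomial.C f) = MvPolynomial.rename some f :=
      fun f => by simp [E, MvPolynomial.optionEquivLeft_symm_apply, Polynomial.aevalTower_C]
    have h1 : (E (Polynomial.C (genMember e i j))).totalDegree ≤ 1 := by
      rw [hC]
      refine le_trans (MvPolynomial.totalDegree_rename_le _ _) ?_
      rw [genMember_apply]
      refine MvPolynomial.totalDegree_finsetSum_le fun k _ => ?_
      refine le_trans (MvPolynomial.totalDegree_mul _ _) ?_
      simp
    rcases eq_or_ne i j with rfl | h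
    · rw [Matrix.charmatrix_apply_eq, map_sub, hX]
      refine le_trans (MvPolynomial.totalDegree_sub _ _) (max_le ?_ h1)
      simp
    · rw [Matrix.charmatrix_apply_ne _ _ _ h, map_neg, MvPolynomial.totalDegree_neg]
      exact h1
  rw [Matrix.charpoly, Matrix.det_apply, map_sum]
  refine MvPolynomial.totalDegree_finsetSum_le fun σ _ => ?_
  rw [Units.smul_def, map_zsmul]
  refine le_trans (MvPolynomial.totalDegree_smul_le _ _) ?_
  rw [map_prod]
  refine le_trans (MvPolynomial.totalDegree_finsetProd _ _) ?_
  refine le_trans (Finset.sum_le_sum fun i _ => hentry _ _) ?_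
  simp

variable [Fintype F]

/-- The characteristic polynomial of the generic member of a division space is irreducible. -/
theorem charpoly_irreducible {e : Fin n → Mn F} (hn : 0 < n)
    (hdiv : ∀ v : Fin n → F, (∑ k, v k • e k).det = 0 → v = 0) :
    Irreducible (genMember e).charpoly := by
  classical
  haveI : Nonempty (Fin n) := ⟨⟨0, hn⟩⟩
  have hf : (genMember e).charpoly.Monic := Matrix.charpoly_monic _
  have hfd : (genMember e).charpoly.natDegree = n := by
    rw [Matrix.charpoly_natDegree_eq_dim, Fintype.card_fin]
  rw [hf.irreducible_iff_natDegree]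
  refine ⟨fun h => ?_, fun g k hg hk hgk => ?_⟩
  · rw [h, natDegree_one] at hfd
    omega
  by_contra hcon
  rw [not_or] at hcon
  obtain ⟨hg0, hk0⟩ := hcon
  have hsum : g.natDegree + k.natDegree = n := by rw [← hg.natDegree_mul hk, hgk, hfd]
  set E := MvPolynomial.optionEquivLeft F (Fin n)
  -- the degree of the constant term
  have hEk : k.natDegree ≤ (E.symm k).totalDegree := by
    have := MvPolynomial.natDegree_optionEquivLeft F (E.symm k)
    rw [E.apply_symm_apply] at this
    rw [this]
    exact MvPolynomial.degreeOf_le_totalDegree _ _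
  have hEg : (E.symm g).totalDegree ≤ g.natDegree := by
    have h := MvPolynomial.totalDegree_mul_of_isDomain (f := E.symm g) (g := E.symm k)
      ((map_ne_zero_iff _ E.symm.injective).2 hg.ne_zero)
      ((map_ne_zero_iff _ E.symm.injective).2 hk.ne_zero)
    rw [← map_mul, hgk] at h
    have := totalDegree_charpoly_le e
    change (E.symm (genMember e).charpoly).totalDegree ≤ n at this
    omega
  have hc : (g.coeff 0).totalDegree < Fintype.card (Fin n) := by
    have h := MvPolynomial.totalDegree_coeff_optionEquivLeft_le _ _ (E.symm g) 0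
    rw [E.apply_symm_apply] at h
    rw [Fintype.card_fin]
    omega
  -- the only zero is the origin
  have hzero : ∀ v : Fin n → F, MvPolynomial.eval v (g.coeff 0) = 0 ↔ v = 0 := by
    intro v
    have hmap : g.map (MvPolynomial.eval v) * k.map (MvPolynomial.eval v) = (∑ i, v i • e i).charpoly := by
      rw [← Polynomial.map_mul, hgk, ← Matrix.charpoly_map, genMember_eval]
    refine ⟨fun h => hdiv v ?_, fun h => ?_⟩
    · rw [Matrix.det_eq_sign_charpoly_coeff, ← hmap, Polynomial.mul_coeff_zero, Polynomial.coeff_map, h]
      simp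
    · subst h
      have h0 : (∑ i, (0 : Fin n → F) i • e i) = 0 := by simp
      rw [h0, Matrix.charpoly_zero] at hmap
      obtain ⟨i, _, hi⟩ := (dvd_prime_pow Polynomial.prime_X _).1 (Dvd.intro _ hmap)
      have heq := Polynomial.eq_of_monic_of_associated (hg.map _) (Polynomial.monic_X_pow i) hi
      have hdeg : i ≠ 0 := by
        intro h0
        apply hg0
        have := congrArg Polynomial.natDegree heq
        rwa [hg.natDegree_map, h0, pow_zero, Polynomial.natDegree_one] at this
      rw [← Polynomial.coeff_map, heq, Polynomial.coeff_X_pow, if_neg (Ne.symm hdeg)]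
  obtain ⟨p, hp⟩ := CharP.exists F
  have hprime : p.Prime := (CharP.char_is_prime_or_zero F p).resolve_right (CharP.char_ne_zero_of_finite F p)
  have hdvd := char_dvd_card_solutions p hc
  have h1 : Fintype.card { x : Fin n → F // MvPolynomial.eval x (g.coeff 0) = 0 } = 1 :=
    Fintype.card_eq_one_iff.2 ⟨⟨0, (hzero 0).2 rfl⟩, fun y => Subtype.ext ((hzero _).1 y.2)⟩
  rw [h1] at hdvd
  exact hprime.one_lt.ne' (Nat.dvd_one.1 hdvd)

omit [Fintype F] in
/-- Closure under `y ↦ x y x` passes to linear combinations. -/
theorem sandwich_mem {L A : Type*} [Field L] [Ring A] [Algebra L A] {ι : Type*} (T : Submodule L A)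
    (e : ι → A) (z : A) (hd : ∀ i, e i * z * e i ∈ T) (ho : ∀ i j, e i * z * e j + e j * z * e i ∈ T)
    (c : ι → L) (s : Finset ι) : (∑ i ∈ s, c i • e i) * z * (∑ i ∈ s, c i • e i) ∈ T := by
  classical
  induction s using Finset.induction with
  | empty => simp
  | insert a s ha ih =>
    rw [Finset.sum_insert ha]
    have key : (c a • e a + ∑ i ∈ s, c i • e i) * z * (c a • e a + ∑ i ∈ s, c i • e i) =
        (c a * c a) • (e a * z * e a) + (∑ i ∈ s, (c a * c i) • (e a * z * e i + e i * z * e a)) +
          (∑ i ∈ s, c i • e i) * z * (∑ i ∈ s, c i • e i) := by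
      have h2 : (∑ i ∈ s, (c a * c i) • (e a * z * e i + e i * z * e a)) =
          c a • e a * z * (∑ i ∈ s, c i • e i) + (∑ i ∈ s, c i • e i) * z * (c a • e a) := by
        rw [Finset.mul_sum, Finset.sum_mul, Finset.sum_mul, ← Finset.sum_add_distrib]
        refine Finset.sum_congr rfl fun i _ => ?_
        simp only [smul_mul_assoc, mul_smul_comm, smul_smul, smul_add]
        rw [mul_comm (c i) (c a)]
      rw [h2]
      simp only [add_mul, mul_add, smul_mul_assoc, mul_smul_comm, smul_smul, smul_add]
      abel
    rw [key]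
    exact T.add_mem (T.add_mem (T.smul_mem _ (hd a)) (T.sum_mem fun i _ => T.smul_mem _ (ho a i))) ih

/-- A division space closed under `a b a` is a commutative algebra. -/
theorem jordanField (S : Submodule F (Mn F)) (hS : Module.finrank F S = n) (h1 : (1 : Mn F) ∈ S)
    (hu : ∀ a ∈ S, a ≠ 0 → IsUnit a) (hJ : ∀ a ∈ S, ∀ b ∈ S, a * b * a ∈ S) :
    ∀ a ∈ S, ∀ b ∈ S, a * b ∈ S ∧ a * b = b * a := by
  classical
  rcases Nat.eq_zero_or_pos n with hn | hn
  · subst hn
    intro a ha b hb
    exact ⟨Subsingleton.elim a (a * b) ▸ ha, Subsingleton.elim _ _⟩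
  let bS := Module.finBasisOfFinrankEq F S hS
  let e : Fin n → Mn F := fun i => (bS i : Mn F)
  have hdiv : ∀ v : Fin n → F, (∑ k, v k • e k).det = 0 → v = 0 := by
    intro v hv
    have hmem : (∑ k, v k • e k) ∈ S := S.sum_mem fun k _ => S.smul_mem _ (bS k).2
    by_contra hne
    have hnz : (∑ k, v k • e k) ≠ 0 := by
      intro h
      refine hne (funext fun k => ?_)
      have hli := Fintype.linearIndependent_iff.1 bS.linearIndependent v (Subtype.ext (by simpa [e] using h)) k
      exact hli
    exact ((Matrix.isUnit_iff_isUnit_det _).1 (hu _ hmem hnz)).ne_zero hv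
  let R := MvPolynomial (Fin n) F
  let L := FractionRing R
  let ι : Mn F →+* Mn L := ((algebraMap R L).comp MvPolynomial.C).mapMatrix
  let XL : Mn L := (genMember e).map (algebraMap R L)
  have hirr : Irreducible XL.charpoly := by
    rw [show XL.charpoly = (genMember e).charpoly.map (algebraMap R L) from Matrix.charpoly_map _ _]
    exact (Matrix.charpoly_monic _).irreducible_iff_irreducible_map_fraction_map.1 (charpoly_irreducible hn hdiv)
  haveI : Nonempty (Fin n) := ⟨⟨0, hn⟩⟩
  have hmp : XL.charpoly = minpoly L XL :=
    minpoly.eq_of_irreducible_of_monic hirr (Matrix.aeval_self_charpoly XL) (Matrix.charpoly_monic _)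
  let T : Submodule L (Mn L) := Submodule.span L (Set.range fun i => ι (e i))
  have hιT : ∀ a ∈ S, ι a ∈ T := by
    intro a ha
    have h := congrArg Subtype.val (bS.sum_repr ⟨a, ha⟩)
    simp only [Submodule.coe_sum, SetLike.val_smul] at h
    rw [← h, map_sum]
    refine T.sum_mem fun i _ => ?_
    have : ι ((bS.repr ⟨a, ha⟩) i • e i) = (algebraMap R L (MvPolynomial.C ((bS.repr ⟨a, ha⟩) i))) • ι (e i) := by
      ext r s
      simp [ι]
    rw [show ((bS i : S) : Mn F) = e i from rfl, this]
    exact T.smul_mem _ (Submodule.subset_span ⟨i, rfl⟩)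
  have hX : XL = ∑ i, (algebraMap R L (MvPolynomial.X i)) • ι (e i) := by
    ext r s
    simp only [XL, Matrix.map_apply, genMember_apply, map_sum, map_mul, Matrix.sum_apply, Matrix.smul_apply, smul_eq_mul]
    rfl
  have hstep : ∀ y ∈ T, XL * y * XL ∈ T := by
    intro y hy
    induction hy using Submodule.span_induction with
    | mem z hz =>
      obtain ⟨k, rfl⟩ := hz
      rw [hX]
      refine sandwich_mem T (fun i => ι (e i)) _ (fun i => ?_) (fun i j => ?_) _ _
      · rw [← map_mul, ← map_mul]
        exact hιT _ (hJ _ (bS i).2 _ (bS k).2)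
      · rw [← map_mul, ← map_mul, ← map_mul, ← map_mul, ← map_add]
        refine hιT _ ?_
        have h2 : e i * e k * e j + e j * e k * e i =
            (e i + e j) * e k * (e i + e j) - e i * e k * e i - e j * e k * e j := by noncomm_ring
        rw [h2]
        exact S.sub_mem (S.sub_mem (hJ _ (S.add_mem (bS i).2 (bS j).2) _ (bS k).2)
          (hJ _ (bS i).2 _ (bS k).2)) (hJ _ (bS j).2 _ (bS k).2)
    | zero => simp
    | add a b _ _ ha hb => rw [mul_add, add_mul]; exact T.add_mem ha hb
    | smul c a _ ha => rw [mul_smul_comm, smul_mul_assoc]; exact T.smul_mem c ha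
  have hpow : ∀ k, XL ^ k ∈ T := by
    intro k
    induction k using Nat.twoStepInduction with
    | zero => simpa using hιT 1 h1
    | one =>
      rw [pow_one, hX]
      exact T.sum_mem fun i _ => T.smul_mem _ (Submodule.subset_span ⟨i, rfl⟩)
    | more k h0 _ =>
      rw [show XL ^ (k + 2) = XL * XL ^ k * XL by rw [← pow_succ', ← pow_succ]]
      exact hstep _ h0
  have hspan : T = Submodule.span L (Set.range fun k : Fin (minpoly L XL).natDegree => XL ^ (k : ℕ)) := by
    refine (Submodule.eq_of_le_of_finrank_le (Submodule.span_le.2 ?_) ?_).symm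
    · rintro _ ⟨k, rfl⟩
      exact hpow _
    · rw [finrank_span_eq_card (linearIndependent_pow XL), Fintype.card_fin, ← hmp,
        Matrix.charpoly_natDegree_eq_dim]
      exact finrank_range_le_card _
  have hprod : ∀ y ∈ T, ∀ z ∈ T, y * z ∈ T ∧ y * z = z * y := by
    intro y hy z hz
    rw [hspan] at hy hz
    induction hy using Submodule.span_induction with
    | mem u hu =>
      obtain ⟨i, rfl⟩ := hu
      induction hz using Submodule.span_induction with
      | mem w hw =>
        obtain ⟨j, rfl⟩ := hw
        dsimp only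
        exact ⟨by rw [← pow_add]; exact hpow _, by rw [← pow_add, ← pow_add, add_comm]⟩
      | zero => simp
      | add a b _ _ ha hb => exact ⟨by rw [mul_add]; exact T.add_mem ha.1 hb.1, by rw [mul_add, add_mul, ha.2, hb.2]⟩
      | smul c a _ ha => exact ⟨by rw [mul_smul_comm]; exact T.smul_mem c ha.1, by rw [mul_smul_comm, smul_mul_assoc, ha.2]⟩
    | zero => simp
    | add a b _ _ ha hb => exact ⟨by rw [add_mul]; exact T.add_mem ha.1 hb.1, by rw [mul_add, add_mul, ha.2, hb.2]⟩
    | smul c a _ ha => exact ⟨by rw [smul_mul_assoc]; exact T.smul_mem c ha.1, by rw [mul_smul_comm, smul_mul_assoc, ha.2]⟩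
  have hinj : Function.Injective ι := Matrix.map_injective
    ((IsFractionRing.injective R L).comp (MvPolynomial.C_injective (Fin n) F))
  intro a ha b hb
  obtain ⟨hm, hc⟩ := hprod _ (hιT a ha) _ (hιT b hb)
  refine ⟨?_, hinj (by rw [map_mul, map_mul, hc])⟩
  by_contra hab
  obtain ⟨φ, hφ, hmap⟩ := Submodule.exists_dual_map_eq_bot_of_notMem hab inferInstance
  let c : Fin n → Fin n → L := fun r s => algebraMap R L (MvPolynomial.C (φ (Matrix.single r s 1)))
  let Φ : Mn L →ₗ[L] L := ∑ r, ∑ s, c r s • Matrix.entryLinearMap L L r s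
  have hΦ : ∀ M : Mn F, Φ (ι M) = algebraMap R L (MvPolynomial.C (φ M)) := by
    intro M
    conv_rhs => rw [Matrix.matrix_eq_sum_single M]
    simp only [map_sum, Φ, LinearMap.sum_apply, LinearMap.smul_apply, Matrix.entryLinearMap_apply, smul_eq_mul]
    refine Finset.sum_congr rfl fun r _ => Finset.sum_congr rfl fun s _ => ?_
    rw [show Matrix.single r s (M r s) = M r s • Matrix.single r s (1 : F) by simp [Matrix.smul_single],
      map_smul, smul_eq_mul, map_mul, map_mul]
    simp [c, ι, mul_comm]
  have hT : T ≤ LinearMap.ker Φ := Submodule.span_le.2 (by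
    rintro _ ⟨i, rfl⟩
    show Φ (ι (e i)) = 0
    have : φ (e i) = 0 := (Submodule.mem_bot F).1 (hmap ▸ Submodule.mem_map_of_mem (bS i).2)
    rw [hΦ, this, map_zero, map_zero])
  have h0 : Φ (ι (a * b)) = 0 := hT (by rw [map_mul]; exact hm)
  rw [hΦ, map_eq_zero_iff _ (IsFractionRing.injective R L), MvPolynomial.C_eq_zero] at h0
  exact hφ h0

end CfsgLib.Char.NatSL
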