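import Cfsg.Agent.Lib.Char.NatSL.Offender
import Cfsg.Agent.Lib.Char.NatSL.JordanField
import Cfsg.Agent.Lib.QuadPair.SLTwo

/-!
# A minimal offender generating with any conjugate gives a natural `SL₂`-module
-/

set_option autoImplicit false
set_option linter.unusedSectionVars false
set_option linter.style.haveILetI false

open scoped MatrixGroups

namespace CfsgLib.Char.NatSL

/-- An additive division set closed under `a b a` in the endomorphisms of an elementary abelian group of the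
same order is a field. -/
theorem jordanEnd {W : Type*} [AddCommGroup W] [Finite W] {p : ℕ} [hp : Fact p.Prime] (hW : ∀ w : W, p • w = 0)
    (S : AddSubgroup (AddMonoid.End W)) (hcard : Nat.card ↥S = Nat.card W) (h1 : (1 : AddMonoid.End W) ∈ S)
    (hu : ∀ a ∈ S, a ≠ 0 → IsUnit a) (hJ : ∀ a ∈ S, ∀ b ∈ S, a * b * a ∈ S) :
    ∀ a ∈ S, ∀ b ∈ S, a * b ∈ S ∧ a * b = b * a := by
  classical
  letI : Module (ZMod p) W := AddCommGroup.zmodModule (n := p) hW
  haveI : Module.Finite (ZMod p) W := Module.Finite.of_finite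
  let bas := Module.finBasis (ZMod p) W
  let L : AddMonoid.End W →+* Matrix (Fin (Module.finrank (ZMod p) W)) (Fin (Module.finrank (ZMod p) W)) (ZMod p) :=
    { toFun := fun f => LinearMap.toMatrixAlgEquiv bas (AddMonoidHom.toZModLinearMap p f)
      map_one' := by
        rw [← map_one (LinearMap.toMatrixAlgEquiv bas)]
        congr 1
      map_mul' := fun f g => by
        rw [← map_mul]
        congr 1
      map_zero' := by
        rw [← map_zero (LinearMap.toMatrixAlgEquiv bas)]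
        congr 1
      map_add' := fun f g => by
        rw [← map_add]
        congr 1 }
  have hL : Function.Injective L := fun f g h =>
    AddMonoidHom.toZModLinearMap_injective p ((LinearMap.toMatrixAlgEquiv bas).injective h)
  let S' := AddSubgroup.toZModSubmodule p (S.map L.toAddMonoidHom)
  have hmem : ∀ f, L f ∈ S' ↔ f ∈ S := fun f =>
    ⟨fun h => by
      obtain ⟨g, hg, hgf⟩ := h
      exact hL hgf ▸ hg, fun h => ⟨f, h, rfl⟩⟩
  have hS : Module.finrank (ZMod p) S' = Module.finrank (ZMod p) W := by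
    haveI : Module.Finite (ZMod p) S' := Module.Finite.of_finite
    have h1 := Module.natCard_eq_pow_finrank (K := ZMod p) (V := S')
    have h2 := Module.natCard_eq_pow_finrank (K := ZMod p) (V := W)
    have h3 : Nat.card S' = Nat.card ↥S :=
      (Nat.card_congr (S.equivMapOfInjective L.toAddMonoidHom hL).toEquiv).symm
    rw [Nat.card_zmod] at h1 h2
    exact Nat.pow_right_injective hp.out.two_le (by simp only; rw [← h1, ← h2, h3, hcard])
  have key := jordanField S' hS (by simpa using (hmem 1).2 h1)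
    (fun a ha hne => by
      obtain ⟨f, hf, rfl⟩ := ha
      exact (hu f hf (fun h => hne (by simp [h]))).map L)
    (fun a ha b hb => by
      obtain ⟨f, hf, rfl⟩ := ha
      obtain ⟨g, hg, rfl⟩ := hb
      show L f * L g * L f ∈ S'
      rw [← map_mul, ← map_mul]
      exact (hmem _).2 (hJ f hf g hg))
  intro a ha b hb
  obtain ⟨h2, h3⟩ := key _ ((hmem a).2 ha) _ ((hmem b).2 hb)
  rw [← map_mul] at h2 h3
  rw [← map_mul] at h3
  exact ⟨(hmem _).1 h2, hL h3⟩

namespace OffData

variable {H : Type*} [Group H] [Finite H] {V : Type*} [AddCommGroup V] [Finite V] [DistribMulAction H V]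
  {p : ℕ} [hp : Fact p.Prime] {T : Sylow p H} {M A : Subgroup H}

local notation "W" => fixS V A
local notation "Z" => fixS V (⊤ : Subgroup H)

theorem natural (hd : OffData V p T M A) :
    ∃ (F : Type) (_ : Field F) (_ : Fintype F), Fintype.card F = Nat.card ↥A ∧
      (∀ w ∈ W, ∃ v : V, ∃ a ∈ A, w - (a • v - v) ∈ Z) ∧
      ∃ (ρ : H ≃* SL(2, F)) (ψ : V →+ (Fin 2 → F)), Function.Surjective ψ ∧ (∀ v, ψ v = 0 ↔ v ∈ Z) ∧
        ∀ h v, ψ (h • v) = ((ρ h : SL(2, F)) : Matrix (Fin 2) (Fin 2) F).mulVec (ψ v) := by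
  classical
  obtain ⟨x, hx⟩ := hd.exists_notMem
  obtain ⟨a₁, ha₁, ha₁x⟩ := hd.conj_notLe hx
  have ha₁1 : a₁ ≠ 1 := fun h => ha₁x (by simp [h, M.one_mem])
  obtain ⟨htop, hWcard, hU, hsurj⟩ := hd.surj_card hx
  have hZW : Z ≤ W := fixS_mono le_top
  obtain ⟨Q, iQ, iQf, q, hqs, hq0⟩ : ∃ (Q : Type _) (_ : AddCommGroup Q) (_ : Finite Q) (q : ↥(W) →+ Q),
      Function.Surjective q ∧ ∀ w : ↥(W), q w = 0 ↔ (w : V) ∈ Z :=
    ⟨↥(W) ⧸ (Z).addSubgroupOf W, inferInstance, inferInstance, QuotientAddGroup.mk' _,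
      QuotientAddGroup.mk'_surjective _, fun w => QuotientAddGroup.eq_zero_iff _⟩
  -- the first coordinate
  have hdec : ∀ v : V, ∃ w : ↥(W), v - (w : V) ∈ tr x W := by
    intro v
    obtain ⟨w, hw, w', hw', rfl⟩ := AddSubgroup.mem_sup.1 (htop.symm ▸ AddSubgroup.mem_top v : v ∈ W ⊔ tr x W)
    exact ⟨⟨w, hw⟩, by simpa using hw'⟩
  choose dec hdecs using hdec
  have huniq : ∀ (v : V) (w : ↥(W)), v - (w : V) ∈ tr x W → q w = q (dec v) := by
    intro v w h
    rw [← sub_eq_zero, ← map_sub, hq0, ← hd.inf_eq hx]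
    refine ⟨(w - dec v).2, ?_⟩
    have := AddSubgroup.sub_mem _ (hdecs v) h
    simpa using this
  let c1 : V →+ Q := AddMonoidHom.mk' (fun v => q (dec v)) fun u v => by
    rw [← map_add]
    refine (huniq _ _ ?_).symm
    have := AddSubgroup.add_mem _ (hdecs u) (hdecs v)
    simpa [add_sub_add_comm] using this
  have hc1W : ∀ w : ↥(W), c1 w = q w := fun w => (huniq _ w (by simp)).symm
  have hc1x : ∀ v ∈ tr x W, c1 v = 0 := fun v hv => by
    have h := huniq v 0 (by simpa using hv)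
    rw [map_zero] at h
    exact h.symm
  -- the maps `v ↦ a v - v`
  let del : ↥A → V →+ Q := fun a => AddMonoidHom.mk' (fun v => q ⟨(a : H) • v - v, hd.quadratic a.2 v⟩) fun u v => by
    rw [← map_add]
    refine congrArg q (Subtype.ext ?_)
    show (a : H) • (u + v) - (u + v) = ((a : H) • u - u) + ((a : H) • v - v)
    rw [smul_add]
    abel
  have hdel0 : ∀ a v, del a v = 0 ↔ (a : H) • v - v ∈ Z := fun a v => hq0 _
  have hdelW : ∀ (a : ↥A), ∀ v ∈ W, del a v = 0 := fun a v hv => (hdel0 a v).2 (by rw [hv _ a.2, sub_self]; exact zero_mem _)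
  let c2 : V →+ Q := del ⟨a₁, ha₁⟩
  have hinjW : ∀ a : ↥A, a ≠ 1 → ∀ v, del a v = 0 → v ∈ W := by
    intro a ha v hv
    obtain ⟨w, hw, w', hw', hvw'⟩ := AddSubgroup.mem_sup.1 (htop.symm ▸ AddSubgroup.mem_top v : v ∈ W ⊔ tr x W)
    have hvw : v - w' ∈ W := by rw [← hvw']; simpa using hw
    have he : (a : H) • v - v = (a : H) • w' - w' := by rw [← hvw', smul_add, hw _ a.2]; abel
    rw [hdel0, he] at hv
    have h1 := hd.inj hx a.2 (fun h => ha (Subtype.ext h)) hw' hv
    have := AddSubgroup.add_mem _ hvw (hZW h1)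
    rwa [sub_add_cancel] at this
  have hc2ker : ∀ v, c2 v = 0 ↔ v ∈ W :=
    fun v => ⟨hinjW _ (fun h => ha₁1 (congrArg Subtype.val h)) v, hdelW _ v⟩
  have hApos : 0 < Nat.card ↥A := Nat.card_pos
  have hZpos : 0 < Nat.card ↥(Z) := Nat.card_pos
  have hWpos : 0 < Nat.card ↥(W) := Nat.card_pos
  have hQcard : Nat.card Q = Nat.card ↥A := by
    have h : Nat.card Q * Nat.card ↥(Z) = Nat.card ↥(W) := by
      have hk : q.ker = (Z).addSubgroupOf W := AddSubgroup.ext hq0
      rw [AddSubgroup.card_eq_card_quotient_mul_card_addSubgroup q.ker,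
        Nat.card_congr (QuotientAddGroup.quotientKerEquivOfSurjective q hqs).toEquiv, hk,
        Nat.card_congr (AddSubgroup.addSubgroupOfEquivOfLe hZW).toEquiv]
    rw [hWcard] at h
    exact Nat.eq_of_mul_eq_mul_right hZpos h
  have hVcard : Nat.card V = Nat.card ↥A * Nat.card ↥(W) := by
    have h := card_sup_mul_card_inf (W) (tr x W)
    rw [htop, hd.inf_eq hx, AddSubgroup.card_top, card_tr] at h
    nlinarith
  have hc2s : Function.Surjective c2 := by
    rw [← AddMonoidHom.range_eq_top]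
    refine AddSubgroup.eq_top_of_le_card _ ?_
    have hker : c2.ker = W := AddSubgroup.ext fun v => hc2ker v
    have h := AddSubgroup.card_eq_card_quotient_mul_card_addSubgroup c2.ker
    rw [Nat.card_congr (QuotientAddGroup.quotientKerEquivRange c2).toEquiv, hker, hVcard] at h
    rw [hQcard]
    exact (Nat.eq_of_mul_eq_mul_right hWpos h).le
  have hc1s : Function.Surjective c1 := fun y => by
    obtain ⟨w, rfl⟩ := hqs y
    exact ⟨w, hc1W w⟩
  -- `A` in coordinates
  have hlift : ∀ a : ↥A, ∃ s : AddMonoid.End Q, ∀ v, s (c2 v) = del a v := fun a =>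
    ⟨c2.liftOfSurjective hc2s ⟨del a, fun v hv => hdelW a v ((hc2ker v).1 hv)⟩, fun v =>
      AddMonoidHom.liftOfRightInverse_comp_apply c2 _ _ _ v⟩
  choose σ hσ using hlift
  have hσext : ∀ s t : AddMonoid.End Q, (∀ v, s (c2 v) = t (c2 v)) → s = t := fun s t h =>
    AddMonoidHom.ext fun y => by obtain ⟨v, rfl⟩ := hc2s y; exact h v
  have hσ1 : σ ⟨a₁, ha₁⟩ = 1 := hσext _ _ fun v => hσ _ v
  have hσmul : ∀ a b, σ (a * b) = σ a + σ b := fun a b => hσext _ _ fun v => by
    show σ (a * b) (c2 v) = σ a (c2 v) + σ b (c2 v)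
    rw [hσ, hσ, hσ]
    show q _ = q _ + q _
    rw [← map_add]
    exact congrArg q (Subtype.ext (hd.sub_mul_smul a.2 b.2 v))
  -- `x A x⁻¹` in coordinates
  have hB : ∀ (b : ↥A) (v : V), (x * b * x⁻¹) • v - v = x • ((b : H) • x⁻¹ • v - x⁻¹ • v) := fun b v => by
    rw [smul_sub, smul_inv_smul, mul_smul, mul_smul]
  have hBmem : ∀ (b : ↥A) (v : V), (x * b * x⁻¹) • v - v ∈ tr x W := fun b v => by
    rw [hB]; exact smul_mem_tr (hd.quadratic b.2 _)
  have hBfix : ∀ (b : ↥A), ∀ v ∈ tr x W, (x * b * x⁻¹) • v = v := fun b v hv => by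
    rw [mul_smul, mul_smul, mem_tr.1 hv _ b.2, smul_inv_smul]
  let gam : ↥A → V →+ Q := fun b => c2.comp (AddMonoidHom.mk' (fun v => (x * b * x⁻¹) • v - v) fun u v => by
    show (x * b * x⁻¹) • (u + v) - (u + v) = _
    rw [smul_add]
    abel)
  have hgam : ∀ b v, gam b v = c2 ((x * b * x⁻¹) • v - v) := fun _ _ => rfl
  have hlift' : ∀ b : ↥A, ∃ s : AddMonoid.End Q, ∀ v, s (c1 v) = gam b v := fun b =>
    ⟨c1.liftOfSurjective hc1s ⟨gam b, fun v hv => by
      show gam b v = 0
      have h1 : ((dec v : ↥(W)) : V) ∈ Z := (hq0 _).1 hv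
      have hvx : v ∈ tr x W := by
        have := AddSubgroup.add_mem _ (hdecs v) (Z_le x h1)
        rwa [sub_add_cancel] at this
      rw [hgam, hBfix b v hvx, sub_self, map_zero]⟩, fun v =>
      AddMonoidHom.liftOfRightInverse_comp_apply c1 _ _ _ v⟩
  choose τ hτ using hlift'
  have hτmul : ∀ a b, τ (a * b) = τ a + τ b := fun a b => AddMonoidHom.ext fun y => by
    obtain ⟨v, rfl⟩ := hc1s y
    show τ (a * b) (c1 v) = τ a (c1 v) + τ b (c1 v)
    rw [hτ, hτ, hτ, hgam, hgam, hgam, ← map_add, hB, hB, hB, ← smul_add]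
    exact congrArg (fun z => c2 (x • z)) (hd.sub_mul_smul a.2 b.2 _)
  haveI : Finite (AddMonoid.End Q) := Finite.of_injective (fun f : AddMonoid.End Q => (f : Q → Q)) DFunLike.coe_injective
  haveI : Nontrivial Q := by
    rw [← Finite.one_lt_card_iff_nontrivial, hQcard, Finite.one_lt_card_iff_nontrivial]
    exact ⟨⟨a₁, ha₁⟩, 1, fun h => ha₁1 (congrArg Subtype.val h)⟩
  haveI : Nontrivial (AddMonoid.End Q) := by
    obtain ⟨y, hy⟩ := exists_ne (0 : Q)
    exact nontrivial_of_ne 1 0 fun h => hy (congrArg (fun f : AddMonoid.End Q => f y) h)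
  have hσz : σ 1 = 0 := by simpa using hσmul 1 1
  have hτz : τ 1 = 0 := by simpa using hτmul 1 1
  have hinv : ∀ b : ↥A, b ≠ 1 → ∃ a : ↥A, a ≠ 1 ∧ σ a * τ b = 1 := by
    intro b hb
    have hy : x * b * x⁻¹ ∉ M := by
      have := hd.free (x := x⁻¹) (fun h => hx (by simpa using M.inv_mem h)) b.2 fun h => hb (Subtype.ext h)
      simpa using this
    obtain ⟨a, ha, htr⟩ := hd.tr_spread hx hy
    have he : σ ⟨a, ha⟩ * τ b = 1 := by
      refine AddMonoidHom.ext fun y => ?_
      obtain ⟨w, rfl⟩ := hqs y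
      show σ ⟨a, ha⟩ (τ b (q w)) = q w
      have h1 : (x * b * x⁻¹) • (w : V) ∈ tr (a * x) W := htr ▸ smul_mem_tr w.2
      set u := a⁻¹ • (x * b * x⁻¹) • (w : V) with hu
      have hux : u ∈ tr x W := by
        rw [mem_tr, hu, ← mul_smul, ← mul_inv_rev]
        exact mem_tr.1 h1
      have hau : a • u = (x * b * x⁻¹) • (w : V) := smul_inv_smul _ _
      have e2 : τ b (q w) = c2 u := by
        rw [← hc1W, hτ, hgam, map_sub, (hc2ker (w : V)).2 w.2, sub_zero, ← hau]
        have h3 := (hc2ker (a • u - u)).2 (hd.quadratic ha u)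
        rwa [map_sub, sub_eq_zero] at h3
      rw [e2, hσ]
      calc del ⟨a, ha⟩ u = c1 (a • u - u) := (hc1W ⟨a • u - u, hd.quadratic ha u⟩).symm
        _ = c1 (w : V) := by
          rw [map_sub, hc1x u hux, sub_zero, hau, ← sub_eq_zero, ← map_sub]
          exact hc1x _ (hBmem b _)
        _ = q w := hc1W w
    refine ⟨⟨a, ha⟩, fun h => ?_, he⟩
    rw [h, hσz, zero_mul] at he
    exact zero_ne_one he
  choose iv hiv1 hiv using hinv
  have hivr : ∀ b hb, τ b * σ (iv b hb) = 1 := fun b hb => mul_eq_one_comm.1 (hiv b hb)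
  have hτinj : Function.Injective τ := by
    intro b b' h
    by_contra hne
    have hne' : b⁻¹ * b' ≠ 1 := fun h1 => hne (inv_mul_eq_one.1 h1)
    have h0 : τ (b⁻¹ * b') = 0 := by
      have := hτmul b (b⁻¹ * b')
      rw [mul_inv_cancel_left, h, left_eq_add] at this
      exact this
    have := hivr _ hne'
    rw [h0, zero_mul] at this
    exact zero_ne_one this
  let φ : ↥A → ↥A := fun b => if hb : b = 1 then 1 else iv b hb
  have hφ : Function.Injective φ := by
    intro b b' h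
    by_cases hb : b = 1 <;> by_cases hb' : b' = 1
    · rw [hb, hb']
    · simp only [φ, dif_pos hb, dif_neg hb'] at h
      exact absurd h.symm (hiv1 _ _)
    · simp only [φ, dif_neg hb, dif_pos hb'] at h
      exact absurd h (hiv1 _ _)
    · simp only [φ, dif_neg hb, dif_neg hb'] at h
      refine hτinj ?_
      calc τ b = τ b * (σ (iv b' hb') * τ b') := by rw [hiv, mul_one]
        _ = τ b * σ (iv b hb) * τ b' := by rw [h, mul_assoc]
        _ = τ b' := by rw [hivr, one_mul]
  have hinvA : ∀ a : ↥A, a ≠ 1 → ∃ b : ↥A, b ≠ 1 ∧ σ a * τ b = 1 ∧ τ b * σ a = 1 := by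
    intro a ha
    obtain ⟨b, hb⟩ := (Finite.injective_iff_surjective.1 hφ) a
    by_cases h1 : b = 1
    · exact absurd (hb.symm.trans (dif_pos h1)) ha
    · have h2 : iv b h1 = a := (dif_neg h1).symm.trans hb
      exact ⟨b, h1, h2 ▸ hiv b h1, h2 ▸ hivr b h1⟩
  have hσunit : ∀ a : ↥A, σ a ≠ 0 → a ≠ 1 := fun a h h1 => h (h1 ▸ hσz)
  have hσinj : Function.Injective σ := by
    intro a a' h
    by_contra hne
    have hne' : a⁻¹ * a' ≠ 1 := fun h1 => hne (inv_mul_eq_one.1 h1)
    have h0 : σ (a⁻¹ * a') = 0 := by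
      have := hσmul a (a⁻¹ * a')
      rw [mul_inv_cancel_left, h, left_eq_add] at this
      exact this
    obtain ⟨b, -, hb, -⟩ := hinvA _ hne'
    rw [h0, zero_mul] at hb
    exact zero_ne_one hb
  let S : AddSubgroup (AddMonoid.End Q) :=
    (AddMonoidHom.mk' (fun a : Additive ↥A => σ (Additive.toMul a)) fun a b => hσmul _ _).range
  let S' : AddSubgroup (AddMonoid.End Q) :=
    (AddMonoidHom.mk' (fun a : Additive ↥A => τ (Additive.toMul a)) fun a b => hτmul _ _).range
  have hS : ∀ a, σ a ∈ S := fun a => ⟨Additive.ofMul a, rfl⟩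
  have hS' : ∀ b, τ b ∈ S' := fun b => ⟨Additive.ofMul b, rfl⟩
  have hunit : ∀ s ∈ S, s ≠ 0 → ∃ t ∈ S', s * t = 1 ∧ t * s = 1 := by
    rintro _ ⟨a, rfl⟩ h
    obtain ⟨b, -, h1, h2⟩ := hinvA _ (hσunit _ h)
    exact ⟨_, hS' b, h1, h2⟩
  have hunit' : ∀ t ∈ S', t ≠ 0 → ∃ s ∈ S, s * t = 1 ∧ t * s = 1 := by
    rintro _ ⟨b, rfl⟩ h
    have hb : Additive.toMul b ≠ 1 := fun h1 => h (show τ (Additive.toMul b) = 0 by rw [h1, hτz])
    exact ⟨_, hS _, hiv _ hb, hivr _ hb⟩
  have h1S : (1 : AddMonoid.End Q) ∈ S := hσ1 ▸ hS _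
  -- Hua's identity
  have hua : ∀ a ∈ S, ∀ b ∈ S', a * b * a ∈ S := by
    intro a ha b hb
    by_cases ha0 : a = 0
    · simp [ha0, zero_mem]
    by_cases hb0 : b = 0
    · simp [hb0, zero_mem]
    obtain ⟨c, hc, hcb, hbc⟩ := hunit' b hb hb0
    obtain ⟨ai, hai, haai, haia⟩ := hunit a ha ha0
    by_cases hd0 : c - a = 0
    · rw [sub_eq_zero.1 hd0] at hcb
      rwa [hcb, one_mul]
    obtain ⟨di, hdi, hddi, hdid⟩ := hunit _ (S.sub_mem hc ha) hd0
    have hs : (ai + di) * (a - a * b * a) = 1 := by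
      have e1 : a - a * b * a = (c - a) * b * a := by rw [sub_mul, hcb, sub_mul, one_mul]
      calc (ai + di) * (a - a * b * a)
          = ai * a - (ai * a) * (b * a) + di * (a - a * b * a) := by noncomm_ring
        _ = 1 - b * a + di * ((c - a) * b * a) := by rw [haia, e1, one_mul]
        _ = 1 - b * a + (di * (c - a)) * (b * a) := by noncomm_ring
        _ = 1 := by rw [hdid, one_mul, sub_add_cancel]
    have hs0 : ai + di ≠ 0 := fun h => by rw [h, zero_mul] at hs; exact zero_ne_one hs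
    obtain ⟨e, he, hes, -⟩ := hunit' _ (S'.add_mem hai hdi) hs0
    have hea : e = a - a * b * a := by
      calc e = e * ((ai + di) * (a - a * b * a)) := by rw [hs, mul_one]
        _ = (e * (ai + di)) * (a - a * b * a) := (mul_assoc _ _ _).symm
        _ = _ := by rw [hes, one_mul]
    have := S.sub_mem ha he
    rwa [hea, sub_sub_cancel] at this
  have hcardS : Nat.card ↥S = Nat.card ↥A :=
    (Nat.card_congr (AddMonoidHom.ofInjective (f := AddMonoidHom.mk' (fun a : Additive ↥A => σ (Additive.toMul a))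
      fun a b => hσmul _ _) (fun a b h => Additive.toMul.injective (hσinj h))).toEquiv).symm.trans
      (Nat.card_congr Additive.toMul)
  have hcardS' : Nat.card ↥S' = Nat.card ↥A :=
    (Nat.card_congr (AddMonoidHom.ofInjective (f := AddMonoidHom.mk' (fun a : Additive ↥A => τ (Additive.toMul a))
      fun a b => hτmul _ _) (fun a b h => Additive.toMul.injective (hτinj h))).toEquiv).symm.trans
      (Nat.card_congr Additive.toMul)
  have hSS : S' = S := AddSubgroup.eq_of_le_of_card_ge (fun b hb => by simpa using hua 1 h1S b hb)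
    (by rw [hcardS, hcardS'])
  have hpw : ∀ a ∈ A, ∀ u : V, p • (a • u - u) = 0 := fun a ha u => by
    have h : ∀ k : ℕ, (a ^ k) • u - u = k • (a • u - u) := by
      intro k
      induction k with
      | zero => simp
      | succ k ih => rw [pow_succ, hd.sub_mul_smul (A.pow_mem ha k) ha, ih, succ_nsmul]
    rw [← h, hd.apow a ha, one_smul, sub_self]
  have hQp : ∀ y : Q, p • y = 0 := fun y => by
    obtain ⟨w, rfl⟩ := hqs y
    obtain ⟨u, -, hu, -, huz⟩ := hd.moved_tr x
    obtain ⟨a, ha, hz⟩ := hsurj u hu huz w w.2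
    rw [← map_nsmul, hq0]
    have e : ((p • w : ↥(W)) : V) = p • ((w : V) - (a • u - u)) := by
      rw [nsmul_sub, hpw a ha u, sub_zero]; rfl
    rw [e]
    exact nsmul_mem hz p
  have hfield := jordanEnd hQp S (hcardS.trans hQcard.symm) h1S
    (fun s hs h => by
      obtain ⟨t, -, h1, h2⟩ := hunit s hs h
      exact ⟨⟨s, t, h1, h2⟩, rfl⟩)
    (fun a ha b hb => hua a ha b (hSS.symm ▸ hb))
  let K : Subring (AddMonoid.End Q) :=
    { carrier := S
      zero_mem' := S.zero_mem
      add_mem' := S.add_mem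
      neg_mem' := S.neg_mem
      one_mem' := h1S
      mul_mem' := fun {a b} ha hb => (hfield a ha b hb).1 }
  have hKf : IsField ↥K :=
    { exists_pair_ne := ⟨0, 1, fun h => zero_ne_one (congrArg Subtype.val h)⟩
      mul_comm := fun a b => Subtype.ext (hfield _ a.2 _ b.2).2
      mul_inv_cancel := fun {a} ha => by
        obtain ⟨t, ht, h1, -⟩ := hunit _ a.2 (fun h => ha (Subtype.ext h))
        exact ⟨⟨t, (hSS ▸ ht : t ∈ S)⟩, Subtype.ext h1⟩ }
  letI : Field ↥K := hKf.toField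
  letI : Fintype (Shrink.{0} ↥K) := Fintype.ofFinite _
  have hKcard : Nat.card ↥K = Nat.card ↥A := hcardS
  let e : Shrink.{0} ↥K ≃+* ↥K := Shrink.ringEquiv _
  obtain ⟨y₀, hy₀⟩ := exists_ne (0 : Q)
  let ev : ↥K →+ Q := AddMonoidHom.mk' (fun k => (k : AddMonoid.End Q) y₀) fun _ _ => rfl
  have hev : Function.Bijective ev := by
    refine (Nat.bijective_iff_injective_and_card _).2 ⟨(injective_iff_map_eq_zero _).2 fun k hk => ?_, hKcard.trans hQcard.symm⟩
    by_contra hk0
    obtain ⟨t, -, -, ht⟩ := hunit _ k.2 (fun h => hk0 (Subtype.ext h))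
    have h1 := congrArg (fun f : AddMonoid.End Q => f y₀) ht
    have h2 : t ((k : AddMonoid.End Q) y₀) = y₀ := h1
    rw [show (k : AddMonoid.End Q) y₀ = 0 from hk, map_zero] at h2
    exact hy₀ h2.symm
  let f : Q ≃+ Shrink.{0} ↥K := (AddEquiv.ofBijective ev hev).symm.trans e.symm.toAddEquiv
  have hf : ∀ (k : ↥K) (y : Q), f ((k : AddMonoid.End Q) y) = e.symm k * f y := by
    intro k y
    obtain ⟨k', rfl⟩ := hev.2 y
    have h1 : (k : AddMonoid.End Q) (ev k') = ev (k * k') := rfl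
    have h2 : ∀ k'' : ↥K, (AddEquiv.ofBijective ev hev).symm (ev k'') = k'' := fun k'' =>
      (AddEquiv.ofBijective ev hev).symm_apply_apply k''
    show e.symm ((AddEquiv.ofBijective ev hev).symm ((k : AddMonoid.End Q) (ev k'))) =
      e.symm k * e.symm ((AddEquiv.ofBijective ev hev).symm (ev k'))
    rw [h1, h2, h2, map_mul]
  let ψ : V →+ (Fin 2 → Shrink.{0} ↥K) := AddMonoidHom.mk' (fun v => ![f (c1 v), f (c2 v)]) fun u v => by
    simp
  have hψs : Function.Surjective ψ := by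
    intro y
    obtain ⟨v, hv⟩ := hc2s (f.symm (y 1))
    obtain ⟨w, hw⟩ := hqs (f.symm (y 0) - c1 v)
    refine ⟨v + w, funext fun i => ?_⟩
    fin_cases i
    · show f (c1 (v + (w : V))) = y 0
      rw [map_add, hc1W, hw, add_sub_cancel, f.apply_symm_apply]
    · show f (c2 (v + (w : V))) = y 1
      rw [map_add, (hc2ker (w : V)).2 w.2, add_zero, hv, f.apply_symm_apply]
  have hψ0 : ∀ v, ψ v = 0 ↔ v ∈ Z := by
    intro v
    constructor
    · intro h
      have h1 : f (c2 v) = 0 := congrFun h 1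
      have hvW : v ∈ W := (hc2ker v).1 ((map_eq_zero_iff f f.injective).1 h1)
      have h0 : f (c1 v) = 0 := congrFun h 0
      rw [map_eq_zero_iff f f.injective, hc1W ⟨v, hvW⟩] at h0
      exact (hq0 _).1 h0
    · intro h
      funext i
      fin_cases i
      · show f (c1 v) = 0
        rw [hc1W ⟨v, hZW h⟩, (hq0 _).2 h, map_zero]
      · show f (c2 v) = 0
        rw [(hc2ker v).2 (hZW h), map_zero]
  have hA' : ∀ (a : ↥A) (v : V), ψ ((a : H) • v) =
      (CfsgLib.QuadPair.upper (e.symm ⟨σ a, hS a⟩) : Matrix _ _ _).mulVec (ψ v) := by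
    intro a v
    have e1 : c1 ((a : H) • v) = c1 v + σ a (c2 v) := by
      rw [hσ, show del a v = c1 ((a : H) • v - v) from (hc1W ⟨_, hd.quadratic a.2 v⟩).symm, map_sub]
      abel
    have e2 : c2 ((a : H) • v) = c2 v := by
      have := (hc2ker _).2 (hd.quadratic a.2 v)
      rwa [map_sub, sub_eq_zero] at this
    funext i
    fin_cases i
    · show f (c1 ((a : H) • v)) = _
      rw [e1, map_add]
      simp [CfsgLib.QuadPair.upper_val, Matrix.mulVec, dotProduct, Fin.sum_univ_two, ψ, ← hf]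
    · show f (c2 ((a : H) • v)) = _
      rw [e2]
      simp [CfsgLib.QuadPair.upper_val, Matrix.mulVec, dotProduct, Fin.sum_univ_two, ψ]
  have hB' : ∀ (b : ↥A) (v : V), ψ ((x * b * x⁻¹) • v) =
      (CfsgLib.QuadPair.lower (e.symm ⟨τ b, (hSS ▸ hS' b : τ b ∈ S)⟩) : Matrix _ _ _).mulVec (ψ v) := by
    intro b v
    have e1 : c1 ((x * b * x⁻¹) • v) = c1 v := by
      have := hc1x _ (hBmem b v)
      rwa [map_sub, sub_eq_zero] at this
    have e2 : c2 ((x * b * x⁻¹) • v) = τ b (c1 v) + c2 v := by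
      rw [hτ, hgam, map_sub, sub_add_cancel]
    funext i
    fin_cases i
    · show f (c1 ((x * b * x⁻¹) • v)) = _
      rw [e1]
      simp [CfsgLib.QuadPair.lower_val, Matrix.mulVec, dotProduct, Fin.sum_univ_two, ψ]
    · show f (c2 ((x * b * x⁻¹) • v)) = _
      rw [e2, map_add]
      simp [CfsgLib.QuadPair.lower_val, Matrix.mulVec, dotProduct, Fin.sum_univ_two, ψ, ← hf]
  let R : Subgroup H :=
    { carrier := {h | ∃ g : SL(2, Shrink.{0} ↥K), ∀ v, ψ (h • v) = (g : Matrix _ _ _).mulVec (ψ v)}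
      one_mem' := ⟨1, fun v => by simp⟩
      mul_mem' := fun {h h'} ⟨g, hg⟩ ⟨g', hg'⟩ => ⟨g * g', fun v => by
        rw [mul_smul, hg, hg', Matrix.mulVec_mulVec, Matrix.SpecialLinearGroup.coe_mul]⟩
      inv_mem' := fun {h} ⟨g, hg⟩ => ⟨g⁻¹, fun v => by
        conv_rhs => rw [← smul_inv_smul h v, hg, Matrix.mulVec_mulVec, ← Matrix.SpecialLinearGroup.coe_mul,
          inv_mul_cancel, Matrix.SpecialLinearGroup.coe_one, Matrix.one_mulVec]⟩ }
  have hR : ∀ h : H, h ∈ R := by
    have : (⊤ : Subgroup H) ≤ R := by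
      rw [← hd.gen x hx]
      refine sup_le (fun a ha => ⟨_, hA' ⟨a, ha⟩⟩) ?_
      rintro _ ⟨b, hb, rfl⟩
      exact ⟨_, hB' ⟨b, hb⟩⟩
    exact fun h => this (Subgroup.mem_top h)
  choose g hg using hR
  have hguniq : ∀ (h : H) (g' : SL(2, Shrink.{0} ↥K)),
      (∀ v, ψ (h • v) = (g' : Matrix _ _ _).mulVec (ψ v)) → g h = g' := by
    intro h g' hg'
    apply Subtype.ext
    apply Matrix.ext_of_mulVec_single
    intro i
    obtain ⟨v, hv⟩ := hψs (Pi.single i 1)
    rw [← hv, ← hg, hg']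
  let ρ₀ : H →* SL(2, Shrink.{0} ↥K) := MonoidHom.mk' g fun h h' => hguniq _ _ fun v => by
    rw [mul_smul, hg, hg, Matrix.mulVec_mulVec, Matrix.SpecialLinearGroup.coe_mul]
  have hρi : Function.Injective ρ₀ := by
    rw [← MonoidHom.ker_eq_bot_iff, Subgroup.eq_bot_iff_forall]
    have hsmall : ∀ h ∈ ρ₀.ker, ∀ v, h • v - v ∈ Z := fun h hh v => by
      have h1 : g h = 1 := hh
      rw [← hψ0, map_sub, hg, h1, Matrix.SpecialLinearGroup.coe_one, Matrix.one_mulVec, sub_self]
    obtain ⟨K₀, hK₀⟩ := hd.vp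
    have hpg : IsPGroup p ρ₀.ker := fun ⟨h, hh⟩ => ⟨K₀, Subtype.ext (hd.faith _ fun v => by
      have hk : ∀ k : ℕ, h ^ k • v = v + k • (h • v - v) := fun k => by
        induction k with
        | zero => simp
        | succ k ih =>
          have hz : h • (h • v - v) = h • v - v := hsmall h hh v _ (Subgroup.mem_top _)
          rw [pow_succ', mul_smul, ih, smul_add, smul_comm h k (h • v - v), hz, succ_nsmul]
          abel
      show h ^ (p ^ K₀) • v = v
      rw [hk, hK₀, add_zero])⟩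
    intro h hh
    have hle := hpg.le_sylow_of_normal T
    refine hd.faith h fun v => ?_
    have hv : v ∈ transT V (T : Subgroup H) := hU.symm ▸ AddSubgroup.mem_top v
    have hfix : transT V (T : Subgroup H) ≤ fixS V ρ₀.ker := iSup_le fun g₁ => by
      rintro _ ⟨u, hu, rfl⟩ k hk
      have hk' := hle ((inferInstance : ρ₀.ker.Normal).conj_mem k hk g₁⁻¹)
      rw [inv_inv] at hk'
      have := congrArg (fun z => g₁ • z) (hu _ hk')
      show k • g₁ • u = g₁ • u
      simpa [← mul_smul, mul_assoc] using this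
    exact hfix hv h hh
  have hρs : Function.Surjective ρ₀ := by
    rw [← MonoidHom.range_eq_top]
    refine CfsgLib.QuadPair.eq_top_of_elementary _ (fun t => ?_) (fun t => ?_)
    · obtain ⟨a, ha⟩ := (e t).2
      refine ⟨_, (hguniq _ _ (hA' (Additive.toMul a))).trans ?_⟩
      refine congrArg _ ((RingEquiv.symm_apply_eq e).2 (Subtype.ext ha))
    · obtain ⟨b, hb⟩ := (hSS.symm ▸ (e t).2 : ((e t : ↥K) : AddMonoid.End Q) ∈ S')
      refine ⟨_, (hguniq _ _ (hB' (Additive.toMul b))).trans ?_⟩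
      refine congrArg _ ((RingEquiv.symm_apply_eq e).2 (Subtype.ext hb))
  refine ⟨Shrink.{0} ↥K, inferInstance, inferInstance, ?_, ?_,
    MulEquiv.ofBijective ρ₀ ⟨hρi, hρs⟩, ψ, hψs, hψ0, fun h v => hg h v⟩
  · rw [← Nat.card_eq_fintype_card, ← hKcard]
    exact Nat.card_congr e.toEquiv
  · intro w hw
    obtain ⟨v, -, hv, -, hvz⟩ := hd.moved_tr x
    obtain ⟨a, ha, hz⟩ := hsurj v hv hvz w hw
    exact ⟨v, a, ha, hz⟩

end OffData

end CfsgLib.Char.NatSL
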