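import Mathlib

/-!
# A minimal offender generating with any conjugate: the two halves of the module

For a `p`-minimal group `H` acting faithfully on an elementary abelian `p`-group `V` and a minimal offender `A`
generating `H` with any conjugate by an element outside the unique maximal subgroup `M` over a Sylow subgroup:
`A` acts quadratically, two fixed spaces fill `V`, they meet in the fixed points of `H`, and `M` fixes the fixed
space of `A`.
-/

set_option autoImplicit false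
set_option linter.unusedSectionVars false

open scoped Pointwise

namespace CfsgLib.Char.NatSL

section Basic

variable {H : Type*} [Group H] {V : Type*} [AddCommGroup V] [DistribMulAction H V]

/-- The fixed points of a subgroup. -/
def fixS (V : Type*) [AddCommGroup V] [DistribMulAction H V] (S : Subgroup H) : AddSubgroup V where
  carrier := {v | ∀ h ∈ S, h • v = v}
  zero_mem' h _ := smul_zero h
  add_mem' hu hv h hh := by rw [smul_add, hu h hh, hv h hh]
  neg_mem' hu h hh := by rw [smul_neg, hu h hh]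

theorem mem_fixS {S : Subgroup H} {v : V} : v ∈ fixS V S ↔ ∀ h ∈ S, h • v = v := Iff.rfl

theorem fixS_mono {S T : Subgroup H} (h : S ≤ T) : fixS V T ≤ fixS V S := fun _ hv g hg => hv g (h hg)

/-- The translate of an additive subgroup. -/
def tr (x : H) (K : AddSubgroup V) : AddSubgroup V := K.map (DistribMulAction.toAddMonoidHom V x)

theorem mem_tr {x : H} {K : AddSubgroup V} {v : V} : v ∈ tr x K ↔ x⁻¹ • v ∈ K := by
  constructor
  · rintro ⟨u, hu, rfl⟩
    simpa using hu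
  · exact fun h => ⟨_, h, by simp⟩

theorem smul_mem_tr {x : H} {K : AddSubgroup V} {v : V} (h : v ∈ K) : x • v ∈ tr x K := ⟨v, h, rfl⟩

theorem card_tr (x : H) (K : AddSubgroup V) : Nat.card ↥(tr x K) = Nat.card ↥K :=
  (Nat.card_congr (K.equivMapOfInjective (DistribMulAction.toAddMonoidHom V x) (MulAction.injective x)).toEquiv).symm

theorem fixS_conj (x : H) (S : Subgroup H) :
    fixS V (S.map (MulAut.conj x).toMonoidHom) = tr x (fixS V S) := by
  ext v
  rw [mem_tr, mem_fixS, mem_fixS]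
  constructor
  · intro h a ha
    have := h (x * a * x⁻¹) ⟨a, ha, by simp⟩
    rw [mul_smul, mul_smul] at this
    exact (smul_left_cancel x (this.trans (smul_inv_smul x v).symm))
  · rintro h _ ⟨a, ha, rfl⟩
    simp [mul_smul, h a ha]

/-- Elements fixing a point on a generating pair fix it everywhere. -/
theorem mem_fixS_top_of_sup {S T : Subgroup H} (h : S ⊔ T = ⊤) {v : V} (hS : v ∈ fixS V S) (hT : v ∈ fixS V T) :
    v ∈ fixS V (⊤ : Subgroup H) := by
  intro g _
  have : (⊤ : Subgroup H) ≤ MulAction.stabilizer H v := h ▸ sup_le (fun a ha => hS a ha) (fun a ha => hT a ha)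
  exact this (Subgroup.mem_top g)

theorem card_sup_mul_card_inf (K L : AddSubgroup V) :
    Nat.card ↥(K ⊔ L) * Nat.card ↥(K ⊓ L) = Nat.card ↥K * Nat.card ↥L := by
  have h1 : Nat.card ↥L * L.relIndex (K ⊔ L) = Nat.card ↥(K ⊔ L) := by
    rw [← AddSubgroup.relIndex_bot_left L, ← AddSubgroup.relIndex_bot_left (K ⊔ L)]
    exact AddSubgroup.relIndex_mul_relIndex _ _ _ bot_le le_sup_right
  have h2 : Nat.card ↥(K ⊓ L) * (K ⊓ L).relIndex K = Nat.card ↥K := by
    rw [← AddSubgroup.relIndex_bot_left (K ⊓ L), ← AddSubgroup.relIndex_bot_left K]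
    exact AddSubgroup.relIndex_mul_relIndex _ _ _ bot_le inf_le_left
  rw [AddSubgroup.inf_relIndex_left] at h2
  rw [← h1, AddSubgroup.relIndex_sup_right, ← h2]
  ring

theorem sub_comm_smul_gen {A : Subgroup H} (hcomm : ∀ a ∈ A, ∀ b ∈ A, a * b = b * a) {a c : H}
    (ha : a ∈ A) (hc : c ∈ A) (u : V) :
    a • (c • u - u) - (c • u - u) = c • (a • u - u) - (a • u - u) := by
  simp only [smul_sub, smul_smul, hcomm a ha c hc]
  abel

/-- An element of `p`-power order is unipotent on an abelian group of `p`-power exponent. -/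
theorem exists_iterate_sub_zero {p : ℕ} (hp : p.Prime) (hV : ∃ k : ℕ, ∀ v : V, p ^ k • v = 0) {a : H} {j : ℕ}
    (ha : a ^ (p ^ j) = 1) : ∃ n : ℕ, ∀ v : V, (fun u => a • u - u)^[n] v = 0 := by
  obtain ⟨k, hk⟩ := hV
  set E := DistribMulAction.toAddMonoidEnd H V a with hE
  obtain ⟨r, hr⟩ := (Commute.one_right (E - 1)).exists_add_pow_prime_pow_eq hp j
  rw [sub_add_cancel, one_pow, mul_one, hE, ← map_pow, ha, map_one, ← hE] at hr
  have h1 : ∀ n : ℕ, ∀ w : V, ((E - 1) ^ n) w = (fun u => a • u - u)^[n] w := by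
    intro n
    induction n with
    | zero => simp
    | succ n ih =>
      intro w
      rw [pow_succ', AddMonoid.End.coe_mul, Function.comp_apply, ih, Function.iterate_succ_apply']
      rfl
  have h2 : (E - 1) ^ p ^ j = (p : AddMonoid.End V) * -((E - 1) * r) := by
    have h3 : (E - 1) ^ p ^ j + (p : AddMonoid.End V) * ((E - 1) * r) = 0 := by
      rw [← mul_assoc]
      rw [add_assoc, add_comm (1 : AddMonoid.End V), ← add_assoc, eq_comm, add_eq_right] at hr
      exact hr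
    rw [mul_neg]
    exact eq_neg_of_add_eq_zero_left h3
  refine ⟨p ^ j * k, fun v => ?_⟩
  rw [← h1, pow_mul, h2, (Nat.cast_commute p _).mul_pow, ← Nat.cast_pow, AddMonoid.End.coe_mul, Function.comp_apply]
  exact hk _

/-- An invariant subgroup contained in its commutator with `A` is trivial. -/
theorem comm_eq_bot_gen [Finite H] [Finite V] {A : Subgroup H} (hcomm : ∀ a ∈ A, ∀ b ∈ A, a * b = b * a)
    (hnil : ∀ a ∈ A, ∃ n : ℕ, ∀ v : V, (fun u => a • u - u)^[n] v = 0) (N : AddSubgroup V) (hinv : ∀ a ∈ A, ∀ v ∈ N, a • v ∈ N)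
    (hN : ∀ Y : AddSubgroup V, (∀ a ∈ A, ∀ v ∈ N, a • v - v ∈ Y) → N ≤ Y) : N = ⊥ := by
  classical
  by_contra hne
  obtain ⟨Y, -, hY⟩ := (Set.toFinite {Y : AddSubgroup V | Y < N ∧ ∀ a ∈ A, ∀ v ∈ Y, a • v ∈ Y}).exists_le_maximal
    (a := ⊥) ⟨bot_lt_iff_ne_bot.2 hne, fun a _ v hv => by simp [AddSubgroup.mem_bot.1 hv]⟩
  have hYN : Y < N := hY.prop.1
  have hYi : ∀ a ∈ A, ∀ v ∈ Y, a • v - v ∈ Y := fun a ha v hv => Y.sub_mem (hY.prop.2 a ha v hv) hv
  have key : ∀ s : Finset H, (∀ b ∈ s, b ∈ A) → ∃ n ∈ N, n ∉ Y ∧ ∀ b ∈ s, b • n - n ∈ Y := by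
    intro s
    induction s using Finset.induction with
    | empty =>
      intro _
      obtain ⟨n, hn, hnY⟩ := SetLike.exists_of_lt hYN
      exact ⟨n, hn, hnY, by simp⟩
    | insert a s _ ih =>
      intro hs
      obtain ⟨ha, hs⟩ := Finset.forall_mem_insert _ _ _ |>.1 hs
      obtain ⟨n, hn, hnY, hns⟩ := ih hs
      have step : ∀ k : ℕ, ∀ n ∈ N, n ∉ Y → (∀ b ∈ s, b • n - n ∈ Y) → (fun u => a • u - u)^[k] n ∈ Y →
          ∃ n ∈ N, n ∉ Y ∧ ∀ b ∈ insert a s, b • n - n ∈ Y := by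
        intro k
        induction k with
        | zero => exact fun n _ hnY _ h => absurd h hnY
        | succ k ihk =>
          intro n hn hnY hns h
          by_cases h1 : a • n - n ∈ Y
          · exact ⟨n, hn, hnY, Finset.forall_mem_insert _ _ _ |>.2 ⟨h1, hns⟩⟩
          · rw [Function.iterate_succ_apply] at h
            refine ihk _ (N.sub_mem (hinv a ha n hn) hn) h1 (fun b hb => ?_) h
            rw [sub_comm_smul_gen hcomm (hs b hb) ha]
            exact hYi a ha _ (hns b hb)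
      obtain ⟨k, hk⟩ := hnil a ha
      exact step k n hn hnY hns (by rw [hk]; exact Y.zero_mem)
  obtain ⟨n, hn, hnY, hns⟩ := key (Set.toFinite (A : Set H)).toFinset fun b hb => by simpa using hb
  let Y' : AddSubgroup V :=
    { carrier := {v | v ∈ N ∧ ∀ a ∈ A, a • v - v ∈ Y}
      zero_mem' := ⟨N.zero_mem, fun a _ => by simp⟩
      add_mem' := fun {u v} hu hv => ⟨N.add_mem hu.1 hv.1, fun a ha => by
        rw [smul_add, add_sub_add_comm]; exact Y.add_mem (hu.2 a ha) (hv.2 a ha)⟩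
      neg_mem' := fun {u} hu => ⟨N.neg_mem hu.1, fun a ha => by
        rw [smul_neg, show -(a • u) - -u = -(a • u - u) by abel]; exact Y.neg_mem (hu.2 a ha)⟩ }
  have hle : Y ≤ Y' := fun v hv => ⟨hYN.le hv, fun a ha => hYi a ha v hv⟩
  have hY'N : Y' ≤ N := fun v hv => hv.1
  rcases hY'N.eq_or_lt with h | h
  · exact hYN.not_ge (hN Y fun a ha v hv => (h.symm ▸ hv : v ∈ Y').2 a ha)
  · refine hnY (hY.le_of_ge ⟨h, fun a ha v hv => ⟨hinv a ha v hv.1, fun b hb => ?_⟩⟩ hle
      ⟨hn, fun a ha => hns a (by simpa using ha)⟩)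
    have h1 := hY.prop.2 a ha _ (hv.2 b hb)
    rw [smul_sub, smul_smul, hcomm a ha b hb, ← smul_smul] at h1
    exact h1

/-- A strictly minimal offender acts quadratically. -/
theorem quadratic_of_strict [Finite H] [Finite V] {A : Subgroup H} (hcomm : ∀ a ∈ A, ∀ b ∈ A, a * b = b * a)
    (hnil : ∀ a ∈ A, ∃ n : ℕ, ∀ v : V, (fun u => a • u - u)^[n] v = 0)
    (hoff : Nat.card V ≤ Nat.card ↥A * Nat.card ↥(fixS V A))
    (hstrict : ∀ X : Subgroup H, X ≤ A → X ≠ ⊥ → X ≠ A →
      Nat.card ↥X * Nat.card ↥(fixS V X) < Nat.card ↥A * Nat.card ↥(fixS V A))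
    {a : H} (ha : a ∈ A) (u : V) : a • u - u ∈ fixS V A := by
  classical
  by_contra hbad
  let X : Subgroup H :=
    { carrier := {h | h ∈ A ∧ ∀ c ∈ A, h • (c • u - u) = c • u - u}
      one_mem' := ⟨A.one_mem, fun c _ => one_smul _ _⟩
      mul_mem' := fun {g h} hg hh => ⟨A.mul_mem hg.1 hh.1, fun c hc => by rw [mul_smul, hh.2 c hc, hg.2 c hc]⟩
      inv_mem' := fun {g} hg => ⟨A.inv_mem hg.1, fun c hc => by rw [inv_smul_eq_iff, hg.2 c hc]⟩ }
  have hXA : X ≤ A := fun h hh => hh.1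
  let Y : AddSubgroup V := AddSubgroup.closure ((fun c => c • u - u) '' (A : Set H)) ⊔ (fixS V A)
  have hWY : (fixS V A) ≤ Y := le_sup_right
  have hgY : ∀ c ∈ A, c • u - u ∈ Y := fun c hc =>
    (le_sup_left : _ ≤ Y) (AddSubgroup.subset_closure ⟨c, hc, rfl⟩)
  have hYfix : Y ≤ fixS V X := sup_le ((AddSubgroup.closure_le _).2 (by
    rintro _ ⟨c, hc, rfl⟩ h hh
    exact hh.2 c hc)) (fixS_mono hXA)
  have hXne : X ≠ A := by
    intro h
    apply hbad
    intro c hc
    exact (h.symm ▸ hc : c ∈ X).2 a ha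
  -- the count
  have hcount : Nat.card ↥A * Nat.card ↥(fixS V A) ≤ Nat.card ↥X * Nat.card ↥Y := by
    let f : ↥A ⧸ X.subgroupOf A → ↥Y ⧸ ((fixS V A)).addSubgroupOf Y := fun q =>
      QuotientAddGroup.mk ⟨(q.out : H) • u - u, hgY _ q.out.2⟩
    have hf : Function.Injective f := by
      intro q r h
      rw [QuotientAddGroup.eq, AddSubgroup.mem_addSubgroupOf] at h
      rw [← QuotientGroup.out_eq' q, ← QuotientGroup.out_eq' r, QuotientGroup.eq, Subgroup.mem_subgroupOf]
      set g := q.out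
      set k := r.out
      refine ⟨A.mul_mem (A.inv_mem g.2) k.2, fun c hc => ?_⟩
      have h' : ∀ c ∈ A, c • (-((g : H) • u - u) + ((k : H) • u - u)) = -((g : H) • u - u) + ((k : H) • u - u) := h
      have h2 := h' c hc
      simp only [smul_add, smul_neg] at h2
      have h3 : c • ((g : H) • u - u) - ((g : H) • u - u) = c • ((k : H) • u - u) - ((k : H) • u - u) := by
        linear_combination (norm := abel) -h2
      rw [sub_comm_smul_gen hcomm hc g.2, sub_comm_smul_gen hcomm hc k.2, sub_left_inj] at h3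
      show ((g : H)⁻¹ * (k : H)) • (c • u - u) = c • u - u
      rw [mul_smul, inv_smul_eq_iff, h3]
    have h1 := Nat.card_le_card_of_injective f hf
    have h2 : Nat.card (↥A ⧸ X.subgroupOf A) * Nat.card ↥X = Nat.card ↥A := by
      rw [← Nat.card_congr (Subgroup.subgroupOfEquivOfLe hXA).toEquiv]
      exact (Subgroup.card_eq_card_quotient_mul_card_subgroup _).symm
    have h3 : Nat.card (↥Y ⧸ ((fixS V A)).addSubgroupOf Y) * Nat.card ↥(fixS V A) = Nat.card ↥Y := by
      rw [← Nat.card_congr (AddSubgroup.addSubgroupOfEquivOfLe hWY).toEquiv]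
      exact (AddSubgroup.card_eq_card_quotient_mul_card_addSubgroup _).symm
    rw [← h2, ← h3]
    nlinarith [Nat.mul_le_mul_right (Nat.card ↥X * Nat.card ↥(fixS V A)) h1]
  have hle : Nat.card ↥Y ≤ Nat.card ↥(fixS V X) := AddSubgroup.card_le_of_le hYfix
  have hX : X = ⊥ := by
    by_contra hXb
    exact absurd (hcount.trans (Nat.mul_le_mul_left _ hle)) (not_le.2 (hstrict X hXA hXb hXne))
  have hY : Y = ⊤ := by
    refine AddSubgroup.eq_top_of_le_card _ ?_
    have hc := hcount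
    rw [hX, Subgroup.card_bot, one_mul] at hc
    exact hoff.trans hc
  let C : AddSubgroup V := AddSubgroup.closure {z | ∃ a ∈ A, ∃ v : V, a • v - v = z}
  have hCi : ∀ a ∈ A, ∀ v ∈ C, a • v ∈ C := fun a ha v hv => by
    have := C.add_mem (AddSubgroup.subset_closure ⟨a, ha, v, rfl⟩ : a • v - v ∈ C) hv
    rwa [sub_add_cancel] at this
  have hC : C = ⊥ := comm_eq_bot_gen hcomm hnil C hCi fun Y' hY' => (AddSubgroup.closure_le _).2 (by
    rintro _ ⟨b, hb, v, rfl⟩
    have hv : v ∈ Y := hY.symm ▸ AddSubgroup.mem_top v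
    obtain ⟨y, hy, w, hw, rfl⟩ := AddSubgroup.mem_sup.1 hv
    have hyC : y ∈ C := (AddSubgroup.closure_le C).2 (by
      rintro _ ⟨c, hc, rfl⟩
      exact AddSubgroup.subset_closure ⟨c, hc, u, rfl⟩) hy
    have : b • (y + w) - (y + w) = b • y - y := by rw [smul_add, hw b hb]; abel
    show b • (y + w) - (y + w) ∈ Y'
    rw [this]
    exact hY' b hb y hyC)
  apply hbad
  have : a • u - u ∈ C := AddSubgroup.subset_closure ⟨a, ha, u, rfl⟩
  rw [hC, AddSubgroup.mem_bot] at this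
  rw [this]
  exact zero_mem _

end Basic

/-- The hypotheses. -/
structure OffData {H : Type*} [Group H] (V : Type*) [AddCommGroup V] [DistribMulAction H V] (p : ℕ) [Fact p.Prime]
    (T : Sylow p H) (M A : Subgroup H) : Prop where
  faith : ∀ h : H, (∀ v : V, h • v = v) → h = 1
  vp : ∃ k : ℕ, ∀ v : V, p ^ k • v = 0
  acomm : ∀ a ∈ A, ∀ b ∈ A, a * b = b * a
  apow : ∀ a ∈ A, a ^ p = 1
  aT : A ≤ T
  coatom : IsCoatom M
  tM : (T : Subgroup H) ≤ M
  uniq : ∀ N : Subgroup H, IsCoatom N → (T : Subgroup H) ≤ N → N = M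
  notNormal : ¬ (T : Subgroup H).Normal
  off : Nat.card V ≤ Nat.card ↥A * Nat.card ↥(fixS V A)
  strict : ∀ X : Subgroup H, X ≤ A → X ≠ ⊥ → X ≠ A →
    Nat.card ↥X * Nat.card ↥(fixS V X) < Nat.card ↥A * Nat.card ↥(fixS V A)
  moved : ∃ v ∈ fixS V (T : Subgroup H), v ∉ fixS V (⊤ : Subgroup H)
  gen : ∀ x : H, x ∉ M → A ⊔ A.map (MulAut.conj x).toMonoidHom = ⊤

namespace OffData

variable {H : Type*} [Group H] [Finite H] {V : Type*} [AddCommGroup V] [Finite V] [DistribMulAction H V]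
  {p : ℕ} [hp : Fact p.Prime] {T : Sylow p H} {M A : Subgroup H}

local notation "W" => fixS V A
local notation "Z" => fixS V (⊤ : Subgroup H)

theorem exists_notMem (hd : OffData V p T M A) : ∃ x : H, x ∉ M := by
  by_contra! h
  exact hd.coatom.1 (eq_top_iff.2 fun x _ => h x)

theorem aM (hd : OffData V p T M A) : A ≤ M := hd.aT.trans hd.tM

theorem nil (hd : OffData V p T M A) (a : H) (ha : a ∈ A) :
    ∃ n : ℕ, ∀ v : V, (fun u => a • u - u)^[n] v = 0 :=
  exists_iterate_sub_zero hp.out hd.vp (j := 1) (by rw [pow_one]; exact hd.apow a ha)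

/-- An invariant subgroup contained in its commutator with `A` is trivial. -/
theorem comm_eq_bot (hd : OffData V p T M A) (N : AddSubgroup V) (hinv : ∀ a ∈ A, ∀ v ∈ N, a • v ∈ N)
    (hN : ∀ Y : AddSubgroup V, (∀ a ∈ A, ∀ v ∈ N, a • v - v ∈ Y) → N ≤ Y) : N = ⊥ :=
  comm_eq_bot_gen hd.acomm hd.nil N hinv hN

theorem quadratic (hd : OffData V p T M A) {a : H} (ha : a ∈ A) (u : V) : a • u - u ∈ W :=
  quadratic_of_strict hd.acomm hd.nil hd.off hd.strict ha u

/-- `a ↦ a • u - u` is additive. -/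
theorem sub_mul_smul (hd : OffData V p T M A) {a c : H} (ha : a ∈ A) (hc : c ∈ A) (u : V) :
    (a * c) • u - u = (a • u - u) + (c • u - u) := by
  have := hd.quadratic hc u a ha
  rw [smul_sub, ← mul_smul] at this
  linear_combination (norm := abel) this

theorem gen_tr (hd : OffData V p T M A) {x y : H} (h : x⁻¹ * y ∉ M) :
    A.map (MulAut.conj x).toMonoidHom ⊔ A.map (MulAut.conj y).toMonoidHom = ⊤ := by
  have := congrArg (Subgroup.map (MulAut.conj x).toMonoidHom) (hd.gen _ h)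
  rw [Subgroup.map_sup, Subgroup.map_map, Subgroup.map_top_of_surjective _ (MulAut.conj x).surjective] at this
  convert this using 3
  ext g
  simp [mul_assoc]

theorem tr_inf (hd : OffData V p T M A) {x y : H} (h : x⁻¹ * y ∉ M) {v : V} (hx : v ∈ tr x W) (hy : v ∈ tr y W) :
    v ∈ Z := by
  rw [← fixS_conj] at hx hy
  exact mem_fixS_top_of_sup (hd.gen_tr h) hx hy

theorem inf_eq (hd : OffData V p T M A) {x : H} (hx : x ∉ M) : W ⊓ tr x W = Z := by
  refine le_antisymm (fun v hv => hd.tr_inf (x := 1) (y := x) (by simpa using hx)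
    (by simpa [mem_tr] using hv.1) hv.2) fun v hv => ⟨fixS_mono le_top hv, ?_⟩
  show v ∈ tr x W
  rw [mem_tr, hv _ (Subgroup.mem_top _)]
  exact fixS_mono le_top hv

theorem Z_le (x : H) : Z ≤ tr x W := fun v hv => by
  rw [mem_tr, hv _ (Subgroup.mem_top _)]
  exact fixS_mono le_top hv

/-- An element of `A` outside `x M x⁻¹` is injective modulo `Z` on the translate by `x`. -/
theorem inj_tr (hd : OffData V p T M A) {x a : H} (ha : a ∈ A) (hax : x⁻¹ * a * x ∉ M) {v : V}
    (hv : v ∈ tr x W) (hz : a • v - v ∈ Z) : v ∈ Z := by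
  refine hd.tr_inf (x := x) (y := a * x) (by rwa [mul_assoc] at hax) hv ?_
  rw [mem_tr, mul_inv_rev, mul_smul]
  have hz' : a⁻¹ • (a • v - v) = a • v - v := hz _ (Subgroup.mem_top _)
  have : a⁻¹ • v = v - (a • v - v) := by
    rw [smul_sub, inv_smul_smul] at hz'
    linear_combination (norm := abel) -hz'
  rw [this, smul_sub, hz x⁻¹ (Subgroup.mem_top _)]
  exact AddSubgroup.sub_mem _ (mem_tr.1 hv) (fixS_mono le_top hz)

theorem conj_notLe (hd : OffData V p T M A) {x : H} (hx : x ∉ M) : ∃ a ∈ A, x⁻¹ * a * x ∉ M := by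
  by_contra! h
  refine hd.coatom.1 (eq_top_iff.2 fun g _ => ?_)
  have hle : A ⊔ A.map (MulAut.conj x).toMonoidHom ≤ M.map (MulAut.conj x).toMonoidHom :=
    sup_le (fun a ha => ⟨x⁻¹ * a * x, h a ha, by simp [mul_assoc]⟩) (Subgroup.map_mono hd.aM)
  rw [hd.gen x hx] at hle
  obtain ⟨m, hm, hmg⟩ := hle (Subgroup.mem_top (x * g * x⁻¹))
  have : m = g := by
    have h2 : x * m * x⁻¹ = x * g * x⁻¹ := hmg
    exact mul_left_cancel (mul_right_cancel h2)
  exact this ▸ hm

/-- `W ⊔ x W` is invariant and contains all translates. -/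
theorem tr_le (hd : OffData V p T M A) {x : H} (hx : x ∉ M) (y : H) : tr y W ≤ W ⊔ tr x W := by
  set U := W ⊔ tr x W
  let S : Subgroup H :=
    { carrier := {h | ∀ v ∈ U, h • v ∈ U ∧ h⁻¹ • v ∈ U}
      one_mem' := fun v hv => by simpa using hv
      mul_mem' := fun {g h} hg hh v hv => ⟨by rw [mul_smul]; exact (hg _ (hh v hv).1).1,
        by rw [mul_inv_rev, mul_smul]; exact (hh _ (hg v hv).2).2⟩
      inv_mem' := fun {g} hg v hv => ⟨(hg v hv).2, by simpa using (hg v hv).1⟩ }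
  have hA : ∀ a ∈ A, ∀ v ∈ U, a • v ∈ U := fun a ha v hv => by
    have := U.add_mem ((le_sup_left : W ≤ U) (hd.quadratic ha v)) hv
    rwa [sub_add_cancel] at this
  have hB : ∀ a ∈ A, ∀ v ∈ U, (x * a * x⁻¹) • v ∈ U := fun a ha v hv => by
    have h1 : (x * a * x⁻¹) • v - v ∈ tr x W := by
      rw [mem_tr, smul_sub, mul_smul, mul_smul, inv_smul_smul]
      exact hd.quadratic ha _
    have := U.add_mem ((le_sup_right : tr x W ≤ U) h1) hv
    rwa [sub_add_cancel] at this
  have hS : (⊤ : Subgroup H) ≤ S := by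
    rw [← hd.gen x hx]
    refine sup_le (fun a ha v hv => ⟨hA a ha v hv, hA _ (A.inv_mem ha) v hv⟩) ?_
    rintro _ ⟨a, ha, rfl⟩ v hv
    refine ⟨hB a ha v hv, ?_⟩
    have := hB _ (A.inv_mem ha) v hv
    simpa [mul_assoc] using this
  rintro _ ⟨w, hw, rfl⟩
  exact ((hS (Subgroup.mem_top y)) w ((le_sup_left : W ≤ U) hw)).1

/-- The part of `A` in the core of `M` is fixed on all translates of `fix T`. -/
theorem core_fix (hd : OffData V p T M A) {a : H} (ha : a ∈ A) (hc : a ∈ M.normalCore) (g : H) {v : V}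
    (hv : v ∈ fixS V (T : Subgroup H)) : a • g • v = g • v := by
  set N := M.normalCore
  set K : Subgroup H := (T : Subgroup H) ⊓ N
  obtain ⟨P', hP'⟩ := (T.isPGroup'.to_le (inf_le_left : K ≤ T)).comap_subtype (K := N) |>.exists_le_sylow
  have hKP : K ≤ (P' : Subgroup N).map N.subtype := fun k hk =>
    ⟨⟨k, hk.2⟩, hP' (Subgroup.mem_comap.2 hk), rfl⟩
  obtain ⟨Q, hQ⟩ := (P'.isPGroup'.map N.subtype).exists_le_sylow
  obtain ⟨c, rfl⟩ := MulAction.exists_smul_eq H T Q
  have hle : (P' : Subgroup N).map N.subtype ≤ K.map (MulAut.conj c).toMonoidHom := by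
    intro y hy
    obtain ⟨t, ht, hty⟩ : y ∈ (T : Subgroup H).map (MulAut.conj c).toMonoidHom := hQ hy
    refine ⟨t, ⟨ht, ?_⟩, hty⟩
    have hyN : y ∈ N := Subgroup.map_subtype_le _ hy
    have := (inferInstance : N.Normal).conj_mem y hyN c⁻¹
    rw [← hty] at this
    simpa [mul_assoc] using this
  have hKe : K = (P' : Subgroup N).map N.subtype := by
    refine Subgroup.eq_of_le_of_card_ge hKP ?_
    refine (Subgroup.card_le_of_le hle).trans (le_of_eq ?_)
    exact (Nat.card_congr (K.equivMapOfInjective _ (MulAut.conj c).injective).toEquiv).symm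
  have hnorm : Subgroup.normalizer (K : Set H) = ⊤ := by
    by_contra hne
    obtain ⟨M', hM', hle'⟩ := (eq_top_or_exists_le_coatom (Subgroup.normalizer (K : Set H))).resolve_left hne
    have hT : (T : Subgroup H) ≤ Subgroup.normalizer (K : Set H) := by
      intro t ht
      refine Subgroup.mem_normalizer_iff.2 fun k => ⟨fun hk => ⟨?_, ?_⟩, fun hk => ⟨?_, ?_⟩⟩
      · exact (T : Subgroup H).mul_mem ((T : Subgroup H).mul_mem ht hk.1) ((T : Subgroup H).inv_mem ht)
      · exact (inferInstance : N.Normal).conj_mem k hk.2 t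
      · have h9 := (T : Subgroup H).mul_mem ((T : Subgroup H).mul_mem ((T : Subgroup H).inv_mem ht) hk.1) ht
        simp [mul_assoc] at h9
        exact h9
      · simpa [mul_assoc] using (inferInstance : N.Normal).conj_mem _ hk.2 t⁻¹
    have hMM := hd.uniq M' hM' (hT.trans hle')
    subst hMM
    refine hM'.1 (eq_top_iff.2 ?_)
    rw [← Sylow.normalizer_sup_eq_top P', ← hKe]
    exact sup_le hle' M'.normalCore_le
  haveI : K.Normal := Subgroup.normalizer_eq_top_iff.1 hnorm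
  have hk : g⁻¹ * a * g ∈ K := by simpa using (inferInstance : K.Normal).conj_mem a ⟨hd.aT ha, hc⟩ g⁻¹
  have := congrArg (fun w => g • w) (hv _ hk.1)
  simpa [← mul_smul, mul_assoc] using this

/-- The span of the translates of `fix T`. -/
def transT (V : Type*) [AddCommGroup V] [DistribMulAction H V] (T : Subgroup H) : AddSubgroup V :=
  ⨆ g : H, tr g (fixS V T)

theorem transT_smul (h : H) {v : V} (hv : v ∈ transT V (T : Subgroup H)) : h • v ∈ transT V (T : Subgroup H) := by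
  suffices transT V (T : Subgroup H) ≤ (transT V (T : Subgroup H)).comap (DistribMulAction.toAddMonoidHom V h) from
    this hv
  refine iSup_le fun g => ?_
  rintro _ ⟨u, hu, rfl⟩
  show h • g • u ∈ transT V (T : Subgroup H)
  rw [← mul_smul]
  exact le_iSup (fun g : H => tr g (fixS V (T : Subgroup H))) (h * g) (smul_mem_tr hu)

theorem moved_tr (hd : OffData V p T M A) (z : H) :
    ∃ v ∈ transT V (T : Subgroup H), v ∈ tr z W ∧ (∀ g ∈ (T : Subgroup H), (z * g * z⁻¹) • v = v) ∧ v ∉ Z := by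
  obtain ⟨v, hv, hvz⟩ := hd.moved
  refine ⟨z • v, le_iSup (fun g : H => tr g (fixS V (T : Subgroup H))) z (smul_mem_tr hv),
    smul_mem_tr (fixS_mono hd.aT hv), fun g hg => ?_, fun h => hvz ?_⟩
  · rw [mul_smul, mul_smul, inv_smul_smul, hv g hg]
  · have := h z⁻¹ (Subgroup.mem_top _)
    rw [inv_smul_smul] at this
    rwa [this]

theorem smul_sub_decomp (hd : OffData V p T M A) {x : H} (hx : x ∉ M) {a : H} (ha : a ∈ A) (y : H) {v : V}
    (hv : v ∈ tr y W) : ∃ w' ∈ tr x W, v - w' ∈ W ∧ a • v - v = a • w' - w' := by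
  obtain ⟨w, hw, w', hw', rfl⟩ := AddSubgroup.mem_sup.1 (hd.tr_le hx y hv)
  refine ⟨w', hw', by simpa using hw, ?_⟩
  rw [smul_add, hw a ha]
  abel

/-- An element of `A` lies in one conjugate of `M` by an element outside `M` only if in all. -/
theorem mem_conj_all (hd : OffData V p T M A) {x y : H} (hx : x ∉ M) (hy : y ∉ M) {a : H} (ha : a ∈ A)
    (hax : x⁻¹ * a * x ∈ M) : y⁻¹ * a * y ∈ M := by
  by_contra hay
  let T' : Sylow p M := T.subtype hd.tM
  have hp' : IsPGroup p (Subgroup.zpowers (⟨x⁻¹ * a * x, hax⟩ : M)) := fun g =>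
    ⟨1, by
      obtain ⟨g, hg⟩ := g
      obtain ⟨k, rfl⟩ := Subgroup.mem_zpowers_iff.1 hg
      have h1 : (⟨x⁻¹ * a * x, hax⟩ : M) ^ p = 1 := Subtype.ext (by
        have := conj_pow (a := x⁻¹) (b := a) (i := p)
        rw [inv_inv, hd.apow a ha] at this
        simpa using this)
      rw [pow_one]
      refine Subtype.ext ?_
      rw [SubgroupClass.coe_pow, ← zpow_natCast, ← zpow_mul, mul_comm, zpow_mul, zpow_natCast, h1, one_zpow]
      rfl⟩
  obtain ⟨Q, hQ⟩ := hp'.exists_le_sylow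
  obtain ⟨m, rfl⟩ := MulAction.exists_smul_eq M T' Q
  obtain ⟨t, ht, htm⟩ := hQ (Subgroup.mem_zpowers _)
  have htm' : (m : H) * t * (m : H)⁻¹ = x⁻¹ * a * x := congrArg Subtype.val htm
  have hz : x * m ∉ M := fun h => hx (by simpa using M.mul_mem h (M.inv_mem m.2))
  obtain ⟨v, -, hv, hvfix, hvz⟩ := hd.moved_tr (x * m)
  have hfix : a • v = v := by
    have := hvfix t ht
    rwa [show (x * m) * t * (x * m)⁻¹ = x * ((m : H) * t * (m : H)⁻¹) * x⁻¹ by group, htm',
      show x * (x⁻¹ * a * x) * x⁻¹ = a by group] at this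
  obtain ⟨w', hw', hvw, he⟩ := hd.smul_sub_decomp hy ha _ hv
  have hw'Z : w' ∈ Z := hd.inj_tr ha hay hw' (by rw [← he, hfix, sub_self]; exact zero_mem _)
  refine hvz (hd.inf_eq hz ▸ ⟨?_, hv⟩)
  have := AddSubgroup.add_mem _ hvw (fixS_mono le_top hw'Z : w' ∈ W)
  rwa [sub_add_cancel] at this

/-- The elements of `A` lying in `x M x⁻¹`. -/
def conjInf (M A : Subgroup H) (x : H) : Subgroup H := A ⊓ M.map (MulAut.conj x).toMonoidHom

theorem mem_conjInf {x a : H} : a ∈ conjInf M A x ↔ a ∈ A ∧ x⁻¹ * a * x ∈ M := by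
  refine and_congr_right fun _ => ⟨?_, fun h => ⟨_, h, by simp [mul_assoc]⟩⟩
  rintro ⟨m, hm, rfl⟩
  simpa [mul_assoc] using hm

theorem conjInf_le_core (hd : OffData V p T M A) {x a : H} (hx : x ∉ M) (ha : a ∈ conjInf M A x) :
    a ∈ M.normalCore := by
  rw [mem_conjInf] at ha
  intro g
  by_cases hg : g ∈ M
  · exact M.mul_mem (M.mul_mem hg (hd.aM ha.1)) (M.inv_mem hg)
  · have := hd.mem_conj_all hx (y := g⁻¹) (fun h => hg (by simpa using M.inv_mem h)) ha.1 ha.2
    simpa using this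

/-- No non-trivial element of `A` lies in a conjugate of `M` by an element outside `M`. -/
theorem free (hd : OffData V p T M A) {x a : H} (hx : x ∉ M) (ha : a ∈ A) (ha1 : a ≠ 1) :
    x⁻¹ * a * x ∉ M := by
  intro hax
  set D := conjInf M A x
  set U := transT V (T : Subgroup H)
  have hDA : D ≤ A := inf_le_left
  have hDne : D ≠ ⊥ := fun h => ha1 (Subgroup.mem_bot.1 (h ▸ mem_conjInf.2 ⟨ha, hax⟩ : a ∈ (⊥ : Subgroup H)))
  have hDA' : D ≠ A := fun h => by
    obtain ⟨b, hb, hbx⟩ := hd.conj_notLe hx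
    exact hbx (mem_conjInf.1 (h.symm ▸ hb : b ∈ D)).2
  have hUD : U ⊔ W ≤ fixS V D := sup_le (iSup_le fun g => by
    rintro _ ⟨u, hu, rfl⟩ d hdm
    exact hd.core_fix (hDA hdm) (hd.conjInf_le_core hx hdm) g hu) (fixS_mono hDA)
  have h1 := (Nat.mul_le_mul_left (Nat.card ↥D) (AddSubgroup.card_le_of_le hUD)).trans_lt
    (hd.strict D hDA hDne hDA')
  obtain ⟨v, hvU, hvW, -, hvz⟩ := hd.moved_tr x
  -- the map `a ↦ a v - v`
  let f : Additive ↥A →+ V ⧸ Z :=
    AddMonoidHom.mk' (fun b => QuotientAddGroup.mk (((Additive.toMul b : ↥A) : H) • v - v)) fun b c => by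
      rw [← QuotientAddGroup.mk_add]
      exact congrArg _ (hd.sub_mul_smul (Additive.toMul b).2 (Additive.toMul c).2 v)
  have hZU : Z ≤ U := fun z hz => le_iSup (fun g : H => tr g (fixS V (T : Subgroup H))) 1
    (by rw [mem_tr]; simpa using fixS_mono (le_top : (T : Subgroup H) ≤ ⊤) hz)
  have hZW : Z ≤ W := fixS_mono le_top
  have hrange : f.range ≤ (U ⊓ W).map (QuotientAddGroup.mk' Z) := by
    rintro _ ⟨b, rfl⟩
    exact ⟨_, ⟨AddSubgroup.sub_mem _ (transT_smul _ hvU) hvU, hd.quadratic (Additive.toMul b).2 v⟩, rfl⟩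
  have hker : Nat.card f.ker ≤ Nat.card ↥D := Nat.card_le_card_of_injective
    (fun b => (⟨((Additive.toMul (b : Additive ↥A) : ↥A) : H), mem_conjInf.2 ⟨(Additive.toMul (b : Additive ↥A)).2, by
      by_contra hb
      exact hvz (hd.inj_tr (Additive.toMul (b : Additive ↥A)).2 hb hvW ((QuotientAddGroup.eq_zero_iff _).1 b.2))⟩⟩ : D))
    (fun b c h => Subtype.ext (Additive.toMul.injective (Subtype.ext (congrArg (fun d : D => (d : H)) h))))
  have h2 : Nat.card ↥A * Nat.card ↥Z ≤ Nat.card ↥D * Nat.card ↥(U ⊓ W) := by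
    have e1 : Nat.card ↥A = Nat.card f.range * Nat.card f.ker := by
      rw [← Nat.card_congr (Additive.toMul (α := ↥A)), AddSubgroup.card_eq_card_quotient_mul_card_addSubgroup f.ker,
        Nat.card_congr (QuotientAddGroup.quotientKerEquivRange f).toEquiv]
    have e2 : Nat.card ↥((U ⊓ W).map (QuotientAddGroup.mk' Z)) * Nat.card ↥Z = Nat.card ↥(U ⊓ W) := by
      have hi : (QuotientAddGroup.mk' Z).ker ≤ U ⊓ W := by
        rw [QuotientAddGroup.ker_mk']
        exact le_inf hZU hZW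
      let g := (QuotientAddGroup.mk' Z).addSubgroupMap (U ⊓ W)
      rw [AddSubgroup.card_eq_card_quotient_mul_card_addSubgroup g.ker,
        Nat.card_congr (QuotientAddGroup.quotientKerEquivOfSurjective g
          (AddMonoidHom.addSubgroupMap_surjective _ _)).toEquiv]
      congr 1
      have hgk : g.ker = (Z).addSubgroupOf (U ⊓ W) := by
        ext u
        simp [g, Subtype.ext_iff, AddSubgroup.mem_addSubgroupOf]
      rw [hgk]
      exact (Nat.card_congr (AddSubgroup.addSubgroupOfEquivOfLe (le_inf hZU hZW)).toEquiv).symm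
    rw [e1, ← e2]
    calc Nat.card f.range * Nat.card f.ker * Nat.card ↥Z
        ≤ Nat.card ↥((U ⊓ W).map (QuotientAddGroup.mk' Z)) * Nat.card ↥D * Nat.card ↥Z :=
          Nat.mul_le_mul_right _ (Nat.mul_le_mul (AddSubgroup.card_le_of_le hrange) hker)
      _ = _ := by ring
  have h3 : Nat.card ↥(U ⊓ W) * Nat.card ↥W ≤ Nat.card ↥(U ⊔ W) * Nat.card ↥Z := by
    have e1 : Nat.card ↥(U ⊓ W) = Nat.card ↥(U ⊓ tr x W) := by
      rw [← card_tr x (U ⊓ W)]
      congr 2
      ext w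
      show w ∈ tr x (U ⊓ W) ↔ w ∈ U ∧ w ∈ tr x W
      rw [mem_tr, AddSubgroup.mem_inf, mem_tr]
      exact and_congr_left fun _ => ⟨fun h => by simpa using transT_smul x h, fun h => transT_smul _ h⟩
    have e2 : (U ⊓ tr x W) ⊓ W = Z := by
      rw [inf_assoc, inf_comm (tr x W), hd.inf_eq hx, inf_eq_right]
      exact hZU
    rw [e1, ← card_sup_mul_card_inf, e2]
    exact Nat.mul_le_mul_right _ (AddSubgroup.card_le_of_le (sup_le_sup_right inf_le_left _))
  have hWpos : 0 < Nat.card ↥W := Nat.card_pos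
  have hZpos : 0 < Nat.card ↥Z := Nat.card_pos
  have h4 : Nat.card ↥A * Nat.card ↥Z * Nat.card ↥W ≤ Nat.card ↥D * Nat.card ↥(U ⊔ W) * Nat.card ↥Z := by
    calc _ ≤ Nat.card ↥D * Nat.card ↥(U ⊓ W) * Nat.card ↥W := Nat.mul_le_mul_right _ h2
      _ = Nat.card ↥D * (Nat.card ↥(U ⊓ W) * Nat.card ↥W) := by ring
      _ ≤ _ := by rw [mul_assoc (Nat.card ↥D)]; exact Nat.mul_le_mul_left _ h3
  nlinarith [Nat.mul_lt_mul_of_pos_right h1 hZpos]

theorem inj (hd : OffData V p T M A) {x a : H} (hx : x ∉ M) (ha : a ∈ A) (ha1 : a ≠ 1) {v : V}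
    (hv : v ∈ tr x W) (hz : a • v - v ∈ Z) : v ∈ Z :=
  hd.inj_tr ha (hd.free hx ha ha1) hv hz

theorem surj_card (hd : OffData V p T M A) {x : H} (hx : x ∉ M) :
    W ⊔ tr x W = ⊤ ∧ Nat.card ↥W = Nat.card ↥A * Nat.card ↥Z ∧ transT V (T : Subgroup H) = ⊤ ∧
      ∀ v ∈ tr x W, v ∉ Z → ∀ w ∈ W, ∃ a ∈ A, w - (a • v - v) ∈ Z := by
  have hfun : ∀ v ∈ tr x W, v ∉ Z → Function.Injective (fun q : ↥A × ↥Z =>
      (⟨((q.1 : H) • v - v) + (q.2 : V), AddSubgroup.add_mem _ (hd.quadratic q.1.2 v) (fixS_mono le_top q.2.2)⟩ : ↥W)) := by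
    rintro v hv hvz ⟨a, z⟩ ⟨b, z'⟩ h
    have h' : ((a : H) • v - v) + (z : V) = ((b : H) • v - v) + (z' : V) := congrArg Subtype.val h
    have hab : a = b := by
      by_contra hne
      have hne' : (a : H)⁻¹ * b ≠ 1 := fun h1 => hne (Subtype.ext (inv_mul_eq_one.1 h1))
      refine hvz (hd.inj hx (A.mul_mem (A.inv_mem a.2) b.2) hne' hv ?_)
      have e1 := hd.sub_mul_smul a.2 (A.mul_mem (A.inv_mem a.2) b.2) v
      rw [mul_inv_cancel_left] at e1
      have : ((a : H)⁻¹ * b) • v - v = (z : V) - z' := by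
        linear_combination (norm := abel) -e1 - h'
      rw [this]
      exact AddSubgroup.sub_mem _ z.2 z'.2
    subst hab
    rw [Prod.mk.injEq]
    exact ⟨rfl, Subtype.ext (add_left_cancel h')⟩
  obtain ⟨v, hvU, hv, -, hvz⟩ := hd.moved_tr x
  have h1 : Nat.card ↥A * Nat.card ↥Z ≤ Nat.card ↥W := by
    simpa [Nat.card_prod] using Nat.card_le_card_of_injective _ (hfun v hv hvz)
  have h2 := card_sup_mul_card_inf W (tr x W)
  rw [hd.inf_eq hx, card_tr] at h2
  have hWpos : 0 < Nat.card ↥W := Nat.card_pos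
  have hZpos : 0 < Nat.card ↥Z := Nat.card_pos
  have h3 : Nat.card ↥(W ⊔ tr x W) ≤ Nat.card V := AddSubgroup.card_le_card_addGroup _
  have h4 : Nat.card ↥W = Nat.card ↥A * Nat.card ↥Z := by
    nlinarith [hd.off, Nat.mul_le_mul_right (Nat.card ↥W) h1, Nat.mul_le_mul_right (Nat.card ↥Z) h3]
  have h5 : W ⊔ tr x W = ⊤ := by
    refine AddSubgroup.eq_top_of_le_card _ (hd.off.trans ?_)
    nlinarith
  have hsurj : ∀ v ∈ tr x W, v ∉ Z → ∀ w ∈ W, ∃ a ∈ A, w - (a • v - v) ∈ Z := by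
    intro v hv hvz w hw
    have hb := (Nat.bijective_iff_injective_and_card _).2 ⟨hfun v hv hvz, by rw [Nat.card_prod, h4]⟩
    obtain ⟨⟨a, z⟩, h⟩ := hb.2 ⟨w, hw⟩
    refine ⟨a, a.2, ?_⟩
    have h' : ((a : H) • v - v) + (z : V) = w := congrArg Subtype.val h
    rw [← h', add_sub_cancel_left]
    exact z.2
  refine ⟨h5, h4, ?_, hsurj⟩
  have hWU : W ≤ transT V (T : Subgroup H) := by
    intro w hw
    obtain ⟨a, _, hz⟩ := hsurj v hv hvz w hw
    have hzU : w - (a • v - v) ∈ transT V (T : Subgroup H) :=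
      le_iSup (fun g : H => tr g (fixS V (T : Subgroup H))) 1
        (by rw [mem_tr]; simpa using fixS_mono (le_top : (T : Subgroup H) ≤ ⊤) hz)
    have := AddSubgroup.add_mem _ hzU (AddSubgroup.sub_mem _ (transT_smul a hvU) hvU)
    rwa [sub_add_cancel] at this
  rw [eq_top_iff, ← h5]
  refine sup_le hWU ?_
  rintro _ ⟨w, hw, rfl⟩
  exact transT_smul x (hWU hw)

/-- `M` fixes the fixed space of `A`. -/
theorem tr_eq (hd : OffData V p T M A) {m : H} (hm : m ∈ M) : tr m W = W := by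
  obtain ⟨x, hx⟩ := hd.exists_notMem
  obtain ⟨htop, -, -, hsurj⟩ := hd.surj_card hx
  refine AddSubgroup.eq_of_le_of_card_ge (fun v hv => ?_) (card_tr m W).ge
  by_contra hvW
  obtain ⟨w, hw, w', hw', hvw⟩ := AddSubgroup.mem_sup.1 (htop.symm ▸ AddSubgroup.mem_top v : v ∈ W ⊔ tr x W)
  subst hvw
  have hw'Z : w' ∉ Z := fun h => hvW (AddSubgroup.add_mem _ hw (fixS_mono le_top h))
  obtain ⟨a, ha, hz⟩ := hsurj w' hw' hw'Z w hw
  have hnot : m⁻¹ * (a * x) ∉ M := fun h => hx (by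
    have := M.mul_mem (M.inv_mem (hd.aM ha)) (M.mul_mem hm h)
    simpa using this)
  have hmem : w + w' ∈ tr (a * x) W := by
    have e : w + w' = a • w' + (w - (a • w' - w')) := by abel
    rw [e]
    refine AddSubgroup.add_mem _ ?_ (Z_le _ hz)
    rw [mem_tr, mul_inv_rev, mul_smul, inv_smul_smul]
    exact mem_tr.1 hw'
  exact hvW (fixS_mono le_top (hd.tr_inf hnot hv hmem))

/-- Every translate by an element outside `M` is an `A`-translate of a given one. -/
theorem tr_spread (hd : OffData V p T M A) {x y : H} (hx : x ∉ M) (hy : y ∉ M) :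
    ∃ a ∈ A, tr y W = tr (a * x) W := by
  obtain ⟨htop, -, -, hsurj⟩ := hd.surj_card hx
  obtain ⟨v, -, hv, -, hvz⟩ := hd.moved_tr y
  obtain ⟨w, hw, w', hw', hvw⟩ := AddSubgroup.mem_sup.1 (htop.symm ▸ AddSubgroup.mem_top v : v ∈ W ⊔ tr x W)
  subst hvw
  have hw'Z : w' ∉ Z := fun h => hvz (hd.inf_eq hy ▸ ⟨AddSubgroup.add_mem _ hw (fixS_mono le_top h), hv⟩)
  obtain ⟨a, ha, hz⟩ := hsurj w' hw' hw'Z w hw
  refine ⟨a, ha, ?_⟩
  have hmem : w + w' ∈ tr (a * x) W := by
    have e : w + w' = a • w' + (w - (a • w' - w')) := by abel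
    rw [e]
    refine AddSubgroup.add_mem _ ?_ (Z_le _ hz)
    rw [mem_tr, mul_inv_rev, mul_smul, inv_smul_smul]
    exact mem_tr.1 hw'
  have hM : (a * x)⁻¹ * y ∈ M := by
    by_contra h
    exact hvz (hd.tr_inf h hmem hv)
  have h2 := hd.tr_eq hM
  conv_rhs => rw [← h2]
  ext u
  simp [mem_tr, mul_smul]

end OffData

end CfsgLib.Char.NatSL
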